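import Groth.Agent.AVRat.CurveChain
import Groth.Agent.Curves.Basic
import Groth.Agent.GLinFree.Dim
import Groth.Agent.N2Field.Basic
import Groth.Agent.SegreDim.Noether
import Groth.Agent.SmoothCompl.Basic
import Groth.Agent.GenBertini.Basic
import Groth.Agent.S19310

/-!
A function on the rational points of a connected scheme of finite type over an algebraically closed field which is
constant along every smooth curve is constant.
-/

set_option autoImplicit false
set_option backward.isDefEq.respectTransparency false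
set_option backward.isDefEq.respectTransparency.types false
set_option linter.style.haveILetI false
set_option linter.unusedSectionVars false
set_option maxHeartbeats 1000000
set_option synthInstance.maxHeartbeats 200000

universe u v

open CategoryTheory MonoidalCategory AlgebraicGeometry
open TopologicalSpace IsLocalRing

noncomputable section

namespace Groth.Agent.AVRat

variable {K : Type u} [Field K]

theorem exists_curve_quotient {A : Type u} [CommRing A] [IsDomain A] [Algebra K A] [Algebra.FiniteType K A]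
    (m : Ideal A) [m.IsMaximal] {g : A} (hg : g ≠ 0) (hgm : g ∈ m) :
    ∃ p : Ideal A, p.IsPrime ∧ p ≤ m ∧ g ∉ p ∧ ringKrullDim (A ⧸ p) = 1 := by
  haveI : IsNoetherianRing A := Algebra.FiniteType.isNoetherianRing K A
  let R := Localization.AtPrime m
  haveI : IsNoetherianRing R := IsLocalization.isNoetherianRing m.primeCompl R inferInstance
  haveI : IsDomain R := IsLocalization.isDomain_localization m.primeCompl_le_nonZeroDivisors
  have hgR : algebraMap A R g ∈ maximalIdeal R := (IsLocalization.AtPrime.to_map_mem_maximal_iff R m g).2 hgm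
  have hg0 : algebraMap A R g ∉ (⊥ : Ideal R) := fun h => hg
    (IsLocalization.injective R m.primeCompl_le_nonZeroDivisors ((Ideal.mem_bot.1 h).trans (map_zero _).symm))
  obtain ⟨Q, hQ, -, hgQ, hmax⟩ := Curves.exists_prime_below_maximal (⊥ : Ideal R) hg0 hgR
  haveI := hQ
  let p := Q.comap (algebraMap A R)
  haveI : p.IsPrime := Ideal.comap_isPrime _ Q
  have hm : (maximalIdeal R).comap (algebraMap A R) = m := IsLocalization.AtPrime.comap_maximalIdeal R m
  have hpm : p ≤ m := hm ▸ Ideal.comap_mono (le_maximalIdeal hQ.ne_top)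
  have hpm' : p ≠ m := fun h => hgQ (show g ∈ p from h ▸ hgm)
  refine ⟨p, inferInstance, hpm, hgQ, ?_⟩
  haveI : IsDomain (A ⧸ p) := Ideal.Quotient.isDomain p
  let π := Ideal.Quotient.mk p
  have hker : RingHom.ker π ≤ m := Ideal.mk_ker.le.trans hpm
  haveI hm' : (m.map π).IsMaximal :=
    Ideal.IsMaximal.map_of_surjective_of_ker_le Ideal.Quotient.mk_surjective hker
  have hbelow : ∀ q : Ideal (A ⧸ p), q.IsPrime → q < m.map π → q = ⊥ := by
    intro q hq hlt
    have h1 : q.comap π ≤ m := by
      refine le_trans (Ideal.comap_mono hlt.le) ?_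
      rw [Ideal.comap_map_of_surjective π Ideal.Quotient.mk_surjective, ← RingHom.ker_eq_comap_bot]
      exact sup_le le_rfl hker
    have h2 : p ≤ q.comap π := fun y hy => by
      rw [Ideal.mem_comap, Ideal.Quotient.eq_zero_iff_mem.2 hy]
      exact zero_mem _
    haveI : (q.comap π).IsPrime := Ideal.comap_isPrime π q
    have hdisj : Disjoint (m.primeCompl : Set A) (q.comap π) :=
      Set.disjoint_left.2 fun y hy hy' => hy (h1 hy')
    have hq' := IsLocalization.isPrime_of_isPrime_disjoint m.primeCompl R _ ‹_› hdisj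
    have hback : ((q.comap π).map (algebraMap A R)).comap (algebraMap A R) = q.comap π :=
      IsLocalization.comap_map_of_isPrime_disjoint m.primeCompl R ‹_› hdisj
    have hQle : Q ≤ (q.comap π).map (algebraMap A R) := by
      rw [← IsLocalization.map_comap m.primeCompl R Q]
      exact Ideal.map_mono h2
    rcases hmax _ hq' hQle with h | h
    · rw [h] at hback
      rw [← Ideal.map_comap_of_surjective π Ideal.Quotient.mk_surjective q, ← hback]
      exact Ideal.map_quotient_self p
    · rw [h, hm] at hback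
      refine absurd ?_ hlt.ne
      rw [← Ideal.map_comap_of_surjective π Ideal.Quotient.mk_surjective q, ← hback]
  have hne : m.map π ≠ ⊥ := fun h => hpm' (le_antisymm hpm fun y hy => by
    have := Ideal.mem_map_of_mem π hy
    rw [h, Ideal.mem_bot] at this
    exact Ideal.Quotient.eq_zero_iff_mem.1 this)
  have hh : (m.map π).height = 1 := by
    refine le_antisymm ?_ (Order.one_le_iff_ne_zero.2 fun h0 => hne ?_)
    · exact_mod_cast (Ideal.height_le_iff (n := 1)).2 fun q hq hlt => by
        rw [hbelow q hq hlt, Ideal.height_bot]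
        exact_mod_cast Nat.zero_lt_one
    · exact Ideal.height_eq_zero_iff_eq_bot.1 h0
  rw [← GLinFree.height_eq_ringKrullDim (K := K) (m.map π), hh]
  rfl

variable [IsAlgClosed K]

set_option maxHeartbeats 4000000 in
/-- a smooth curve mapping to an affine variety, through a given point and out of a given hypersurface -/
theorem exists_curve_alg {A : Type u} [CommRing A] [IsDomain A] [Algebra K A] [Algebra.FiniteType K A]
    (ev : A →ₐ[K] K) {g : A} (hg : g ≠ 0) (hev : ev g = 0) :
    ∃ (C : Type u) (_ : CommRing C) (_ : IsDomain C) (_ : Algebra K C) (φ : A →ₐ[K] C) (c₀ c₁ : C →ₐ[K] K),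
      Algebra.Smooth K C ∧ ringKrullDim C = 1 ∧ c₀.comp φ = ev ∧ c₁ (φ g) ≠ 0 := by
  haveI hm : (RingHom.ker ev).IsMaximal :=
    RingHom.ker_isMaximal_of_surjective ev fun r => ⟨algebraMap K A r, ev.commutes r⟩
  obtain ⟨p, hp, hpm, hgp, hdim⟩ := exists_curve_quotient (K := K) (RingHom.ker ev) hg (RingHom.mem_ker.2 hev)
  haveI := hp
  haveI : IsDomain (A ⧸ p) := Ideal.Quotient.isDomain p
  let B := A ⧸ p
  let F := FractionRing B
  let C := integralClosure B F
  haveI : Module.Finite B C := N2Field.finite_integralClosure K B F F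
  haveI : Algebra.FiniteType B C := inferInstance
  haveI : IsScalarTower K B C := inferInstance
  haveI : Algebra.FiniteType K C := Algebra.FiniteType.trans (S := B) inferInstance inferInstance
  haveI : IsNoetherianRing C := Algebra.FiniteType.isNoetherianRing K C
  haveI : Algebra.IsIntegral B C := Algebra.IsIntegral.of_finite B C
  have hinj : Function.Injective (algebraMap B C) := fun a b h =>
    IsFractionRing.injective B F (congrArg Subtype.val h)
  have hdC : ringKrullDim C = 1 := (SegreDim.ringKrullDim_eq_of_injective_integral hinj).symm.trans hdim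
  haveI : IsFractionRing C F := integralClosure.isFractionRing_of_finite_extension F F
  haveI : IsIntegrallyClosed C := (isIntegrallyClosed_iff F).2 fun {x} hx =>
    ⟨⟨x, (isIntegral_trans (R := B) (A := C) x hx : IsIntegral B x)⟩, rfl⟩
  haveI : IsRegularRing C := by
    refine isRegularRing_iff.2 fun q hq => ?_
    haveI := hq
    haveI : IsDomain (Localization.AtPrime q) :=
      IsLocalization.isDomain_localization q.primeCompl_le_nonZeroDivisors
    haveI : IsIntegrallyClosed (Localization.AtPrime q) :=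
      isIntegrallyClosed_of_isLocalization _ q.primeCompl q.primeCompl_le_nonZeroDivisors
    haveI : IsNoetherianRing (Localization.AtPrime q) :=
      IsLocalization.isNoetherianRing q.primeCompl _ inferInstance
    refine SmoothCompl.isRegularLocalRing_of_dim_le_one _ ?_
    rw [IsLocalization.AtPrime.ringKrullDim_eq_height q (Localization.AtPrime q), ← hdC]
    exact Ideal.height_le_ringKrullDim_of_ne_top hq.ne_top
  let φ : A →ₐ[K] C := (IsScalarTower.toAlgHom K B C).comp (Ideal.Quotient.mkₐ K p)
  -- the point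
  let ev' : B →ₐ[K] K := Ideal.Quotient.liftₐ p ev fun a ha => hpm ha
  haveI : (RingHom.ker ev').IsMaximal :=
    RingHom.ker_isMaximal_of_surjective ev' fun r => ⟨algebraMap K B r, ev'.commutes r⟩
  obtain ⟨M, hM, hMB⟩ := Ideal.exists_ideal_over_maximal_of_isIntegral (S := C) (RingHom.ker ev')
    (by rw [(RingHom.injective_iff_ker_eq_bot _).1 hinj]; exact bot_le)
  haveI := hM
  haveI : Algebra.FiniteType K (C ⧸ M) := Algebra.FiniteType.of_surjective (Ideal.Quotient.mkₐ K M) Ideal.Quotient.mk_surjective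
  letI : Field (C ⧸ M) := Ideal.Quotient.field M
  haveI : Module.Finite K (C ⧸ M) := finite_of_finite_type_of_isJacobsonRing K (C ⧸ M)
  haveI : Algebra.IsIntegral K (C ⧸ M) := Algebra.IsIntegral.of_finite K (C ⧸ M)
  let e : (C ⧸ M) ≃ₐ[K] K := (AlgEquiv.ofBijective (Algebra.ofId K (C ⧸ M))
    ⟨(algebraMap K (C ⧸ M)).injective, IsAlgClosed.algebraMap_bijective_of_isIntegral.2⟩).symm
  let c₀ : C →ₐ[K] K := e.toAlgHom.comp (Ideal.Quotient.mkₐ K M)
  have hc₀ : c₀.comp φ = ev := by
    ext a
    have h1 : a - algebraMap K A (ev a) ∈ RingHom.ker ev := by simp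
    have h2 : Ideal.Quotient.mk p (a - algebraMap K A (ev a)) ∈ RingHom.ker ev' := by
      rw [RingHom.mem_ker]
      exact h1
    rw [← hMB, Ideal.mem_comap] at h2
    have h3 : c₀ (φ (a - algebraMap K A (ev a))) = 0 := by
      change e (Ideal.Quotient.mk M _) = 0
      rw [show Ideal.Quotient.mk M (φ (a - algebraMap K A (ev a))) = 0 from Ideal.Quotient.eq_zero_iff_mem.2 h2,
        map_zero]
    rw [map_sub, map_sub, AlgHom.commutes, AlgHom.commutes, sub_eq_zero] at h3
    exact h3
  have hgC : φ g ≠ 0 := fun h => hgp (Ideal.Quotient.eq_zero_iff_mem.1 (hinj (h.trans (map_zero _).symm)))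
  obtain ⟨c₁, hc₁⟩ := S19310.exists_point (k := K) hgC
  exact ⟨C, inferInstance, inferInstance, inferInstance, φ, c₀, c₁, GenBertini.smooth_of_regular K C, hdC, hc₀, hc₁⟩

/-- an affine scheme over the base field -/
abbrev affObj (K A : Type u) [Field K] [CommRing A] [Algebra K A] : Over (Spec (CommRingCat.of K)) :=
  Over.mk (Spec.map (CommRingCat.ofHom (algebraMap K A)))

instance isSeparated_affObj (A : Type u) [CommRing A] [Algebra K A] : IsSeparated (affObj K A).hom :=
  inferInstanceAs (IsSeparated (Spec.map (CommRingCat.ofHom (algebraMap K A))))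

instance quasiCompact_affObj (A : Type u) [CommRing A] [Algebra K A] : QuasiCompact (affObj K A).hom :=
  inferInstanceAs (QuasiCompact (Spec.map (CommRingCat.ofHom (algebraMap K A))))

/-- the map of affine schemes of an algebra map -/
def affMap {A B : Type u} [CommRing A] [Algebra K A] [CommRing B] [Algebra K B] (φ : A →ₐ[K] B) :
    affObj K B ⟶ affObj K A :=
  Over.homMk (Spec.map (CommRingCat.ofHom φ.toRingHom))
    (by
      change Spec.map (CommRingCat.ofHom φ.toRingHom) ≫ Spec.map _ = Spec.map _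
      rw [← Spec.map_comp, ← CommRingCat.ofHom_comp]
      exact congrArg (fun f => Spec.map (CommRingCat.ofHom f)) φ.comp_algebraMap)

/-- the rational point of an algebra map to the base field -/
def affPt {A : Type u} [CommRing A] [Algebra K A] (ev : A →ₐ[K] K) : AVDeg.one' K ⟶ affObj K A :=
  Over.homMk (Spec.map (CommRingCat.ofHom ev.toRingHom))
    (by
      change Spec.map (CommRingCat.ofHom ev.toRingHom) ≫ Spec.map _ = 𝟙 _
      rw [← Spec.map_comp, ← CommRingCat.ofHom_comp, AlgHom.toRingHom_eq_coe, ev.comp_algebraMap]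
      exact Spec.map_id _)

theorem affPt_comp {A B : Type u} [CommRing A] [Algebra K A] [CommRing B] [Algebra K B] (φ : A →ₐ[K] B)
    (c : B →ₐ[K] K) : affPt c ≫ affMap φ = affPt (c.comp φ) := by
  apply Over.OverMorphism.ext
  change Spec.map _ ≫ Spec.map _ = Spec.map _
  rw [← Spec.map_comp, ← CommRingCat.ofHom_comp]
  rfl

theorem affPt_mem_basicOpen {A : Type u} [CommRing A] [Algebra K A] (ev : A →ₐ[K] K) (g : A) :
    (affPt ev).left (closedPoint K) ∈ PrimeSpectrum.basicOpen g ↔ ev g ≠ 0 := by
  change g ∉ (maximalIdeal K).comap ev.toRingHom ↔ _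
  rw [Ideal.mem_comap, IsLocalRing.mem_maximalIdeal, mem_nonunits_iff, isUnit_iff_ne_zero, not_not]
  rfl

theorem exists_affPt {A : Type u} [CommRing A] [Algebra K A] (t : AVDeg.one' K ⟶ affObj K A) :
    ∃ ev : A →ₐ[K] K, affPt ev = t := by
  obtain ⟨ψ, hψ⟩ : ∃ ψ : CommRingCat.of A ⟶ CommRingCat.of K, Spec.map ψ = t.left := ⟨Spec.preimage _, Spec.map_preimage _⟩
  have h : CommRingCat.ofHom (algebraMap K A) ≫ ψ = 𝟙 _ := by
    apply Spec.map_injective
    rw [Spec.map_comp, hψ, Spec.map_id]
    exact Over.w t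
  refine ⟨AlgHom.mk ψ.hom fun r => congrArg (fun f : CommRingCat.of K ⟶ CommRingCat.of K => f.hom r) h, ?_⟩
  exact Over.OverMorphism.ext hψ

variable {T : Over (Spec (CommRingCat.of K))} {α : Sort v}

/-- constancy along every smooth curve -/
def ConstOnCurves (F : (AVDeg.one' K ⟶ T) → α) : Prop :=
  ∀ (D : Over (Spec (CommRingCat.of K))) (_ : IsIntegral D.left) (f : D ⟶ T) (d₀ d₁ : AVDeg.one' K ⟶ D),
    Smooth D.hom → IsSeparated D.hom → QuasiCompact D.hom → topologicalKrullDim D.left = 1 →
      F (d₀ ≫ f) = F (d₁ ≫ f)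

theorem ConstOnCurves.comp {F : (AVDeg.one' K ⟶ T) → α} (hF : ConstOnCurves F)
    {T' : Over (Spec (CommRingCat.of K))} (φ : T' ⟶ T) : ConstOnCurves fun t => F (t ≫ φ) :=
  fun D hD f d₀ d₁ h1 h2 h3 h4 => by
    simpa only [Category.assoc] using hF D hD (f ≫ φ) d₀ d₁ h1 h2 h3 h4

theorem ConstOnCurves.eq_of_smooth {F : (AVDeg.one' K ⟶ T) → α} (hF : ConstOnCurves F) [IsIntegral T.left]
    [Smooth T.hom] [IsSeparated T.hom] [QuasiCompact T.hom] (a b : AVDeg.one' K ⟶ T) : F a = F b := by
  have h : ∀ a b : AVDeg.one' K ⟶ T, Linked T a b → F a = F b := by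
    rintro a b (rfl | ⟨D, hD, f, d₀, d₁, h1, h2, h3, h4, rfl, rfl⟩)
    · rfl
    · exact hF D hD f d₀ d₁ h1 h2 h3 h4
  obtain ⟨c, ha, hb⟩ := exists_chain T a b
  exact (h a c ha).trans (h b c hb).symm

set_option maxHeartbeats 4000000 in
theorem ConstOnCurves.eq_of_affine {A : Type u} [CommRing A] [IsDomain A] [Algebra K A] [Algebra.FiniteType K A]
    {F : (AVDeg.one' K ⟶ affObj K A) → α} (hF : ConstOnCurves F) (a b : AVDeg.one' K ⟶ affObj K A) : F a = F b := by
  haveI : LocallyOfFiniteType (affObj K A).hom :=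
    (HasRingHomProperty.Spec_iff (P := @LocallyOfFiniteType)).2 (RingHom.finiteType_algebraMap.2 inferInstance)
  let s := Spec.map (CommRingCat.ofHom (algebraMap K A))
  haveI : LocallyOfFiniteType s := ‹_›
  haveI : LocallyOfFinitePresentation s := (LocallyOfFinitePresentation.iff_locallyOfFiniteType (f := s)).2 inferInstance
  haveI : IsIntegral (Spec (CommRingCat.of A)) := inferInstance
  have hgen : genericPoint (Spec (CommRingCat.of A)) ∈ s.smoothLocus :=
    GeomProp.mem_smoothLocus_of_regular_perfect s (by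
      let _ : Field ((Spec (CommRingCat.of A)).presheaf.stalk (genericPoint (Spec (CommRingCat.of A)))) :=
        inferInstanceAs (Field (Spec (CommRingCat.of A)).functionField)
      infer_instance)
  obtain ⟨_, ⟨g, rfl⟩, hgmem, hgle⟩ :=
    PrimeSpectrum.isTopologicalBasis_basic_opens.exists_subset_of_mem_open hgen s.smoothLocus.2
  have hg : g ≠ 0 := fun h => by
    subst h
    simp at hgmem
  haveI : Algebra.Smooth K (Localization.Away g) := by
    rw [← RingHom.smooth_algebraMap, ← CommRingCat.hom_ofHom (algebraMap K (Localization.Away g)),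
      ← HasRingHomProperty.Spec_iff (P := @Smooth)]
    let i := Spec.map (CommRingCat.ofHom (algebraMap A (Localization.Away g)))
    have hi : Spec.map (CommRingCat.ofHom (algebraMap K (Localization.Away g))) = i ≫ s := by
      rw [← Spec.map_comp, ← CommRingCat.ofHom_comp, ← IsScalarTower.algebraMap_eq]
    haveI : IsOpenImmersion i := IsOpenImmersion.of_isLocalization g
    rw [hi, ← Scheme.Hom.smoothLocus_eq_top_iff, ← Scheme.Hom.preimage_smoothLocus_eq]
    refine top_le_iff.1 fun y _ => hgle ?_
    exact (PrimeSpectrum.localization_away_comap_range (Localization.Away g) g).le ⟨y, rfl⟩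
  haveI : IsDomain (Localization.Away g) :=
    IsLocalization.isDomain_localization (powers_le_nonZeroDivisors_of_noZeroDivisors hg)
  haveI : Smooth (affObj K (Localization.Away g)).hom :=
    (HasRingHomProperty.Spec_iff (P := @Smooth)).2 (RingHom.smooth_algebraMap.2 inferInstance)
  haveI : IsIntegral (affObj K (Localization.Away g)).left := inferInstanceAs (IsIntegral (Spec _))
  let j := affMap (IsScalarTower.toAlgHom K A (Localization.Away g))
  have hopen : ∀ ev : A →ₐ[K] K, ev g ≠ 0 → ∃ ev', affPt ev' ≫ j = affPt ev := fun ev hev => by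
    refine ⟨IsLocalization.liftAlgHom (M := Submonoid.powers g) (f := ev) ?_, ?_⟩
    · rintro ⟨_, n, rfl⟩
      exact (isUnit_iff_ne_zero.2 (by rw [map_pow]; exact pow_ne_zero n hev))
    · rw [affPt_comp]
      congr 1
      ext x
      exact IsLocalization.lift_eq _ _
  obtain ⟨ev₀, hev₀⟩ := S19310.exists_point (k := K) hg
  have key : ∀ t : AVDeg.one' K ⟶ affObj K A, F t = F (affPt ev₀) := by
    have h1 : ∀ ev : A →ₐ[K] K, ev g ≠ 0 → F (affPt ev) = F (affPt ev₀) := fun ev hev => by
      obtain ⟨e, he⟩ := hopen ev hev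
      obtain ⟨e₀, he₀⟩ := hopen ev₀ hev₀
      rw [← he, ← he₀]
      exact (hF.comp j).eq_of_smooth _ _
    intro t
    obtain ⟨ev, rfl⟩ := exists_affPt t
    by_cases hev : ev g = 0
    · obtain ⟨C, _, _, _, φ, c₀, c₁, hsm, hdim, hc₀, hc₁⟩ := exists_curve_alg ev hg hev
      have h := hF (affObj K C) (inferInstanceAs (IsIntegral (Spec (CommRingCat.of C)))) (affMap φ) (affPt c₀) (affPt c₁)
        ((HasRingHomProperty.Spec_iff (P := @Smooth)).2 (RingHom.smooth_algebraMap.2 hsm)) inferInstance inferInstance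
        ((PrimeSpectrum.topologicalKrullDim_eq_ringKrullDim (R := C)).trans hdim)
      rw [affPt_comp, affPt_comp, hc₀] at h
      exact h.trans (h1 _ hc₁)
    · exact h1 ev hev
  exact (key a).trans (key b).symm

set_option maxHeartbeats 4000000 in
/-- **A function on the rational points of a connected scheme of finite type which is constant along smooth curves
is constant.** -/
theorem ConstOnCurves.eq {F : (AVDeg.one' K ⟶ T) → α} (hF : ConstOnCurves F) [LocallyOfFiniteType T.hom]
    [ConnectedSpace T.left] (a b : AVDeg.one' K ⟶ T) : F a = F b := by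
  haveI : JacobsonSpace T.left := LocallyOfFiniteType.jacobsonSpace T.hom
  -- a neighbourhood of every point on which the function is constant
  have hN : ∀ t : AVDeg.one' K ⟶ T, ∃ N : T.left.Opens, t.left (closedPoint K) ∈ N ∧
      ∀ t' : AVDeg.one' K ⟶ T, t'.left (closedPoint K) ∈ N → F t' = F t := by
    intro t
    let x := t.left (closedPoint K)
    obtain ⟨W, hW, hxW, -⟩ := exists_isAffineOpen_mem_and_subset (show x ∈ (⊤ : T.left.Opens) from trivial)
    let R := Γ(T.left, W)
    let ρ : CommRingCat.of K ⟶ Γ(T.left, W) := Spec.preimage (hW.fromSpec ≫ T.hom)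
    letI : Algebra K R := ρ.hom.toAlgebra
    have hρ : Spec.map (CommRingCat.ofHom (algebraMap K R)) = hW.fromSpec ≫ T.hom := Spec.map_preimage _
    haveI : Algebra.FiniteType K R := by
      rw [← RingHom.finiteType_algebraMap, ← CommRingCat.hom_ofHom (algebraMap K R),
        ← HasRingHomProperty.Spec_iff (P := @LocallyOfFiniteType), hρ]
      infer_instance
    haveI : IsNoetherianRing R := Algebra.FiniteType.isNoetherianRing K R
    let π : affObj K R ⟶ T := Over.homMk hW.fromSpec hρ.symm
    have hlift : ∀ t' : AVDeg.one' K ⟶ T, t'.left (closedPoint K) ∈ W → ∃ ev : R →ₐ[K] K, affPt ev ≫ π = t' := by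
      intro t' ht'
      haveI : Subsingleton (Spec (CommRingCat.of K)) := inferInstanceAs (Subsingleton (PrimeSpectrum K))
      have hr : Set.range t'.left ⊆ Set.range hW.fromSpec := by
        rw [hW.range_fromSpec]
        rintro _ ⟨q, rfl⟩
        rwa [show q = closedPoint K from Subsingleton.elim (α := ↥(Spec (CommRingCat.of K))) _ _]
      let s : AVDeg.one' K ⟶ affObj K R := Over.homMk (IsOpenImmersion.lift hW.fromSpec t'.left hr) (by
        change IsOpenImmersion.lift hW.fromSpec t'.left hr ≫ Spec.map _ = _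
        rw [hρ, IsOpenImmersion.lift_fac_assoc]
        exact Over.w t')
      obtain ⟨ev, hev⟩ := exists_affPt s
      exact ⟨ev, by rw [hev]; exact Over.OverMorphism.ext (IsOpenImmersion.lift_fac _ _ _)⟩
    obtain ⟨ev, hev⟩ := hlift t hxW
    let bad := {p ∈ minimalPrimes R | ¬ p ≤ RingHom.ker ev}
    have hbad : bad.Finite := (minimalPrimes.finite_of_isNoetherianRing R).subset fun _ h => h.1
    let N₀ : (Spec (CommRingCat.of R)).Opens :=
      ⟨(⋃ p ∈ bad, PrimeSpectrum.zeroLocus (p : Set R))ᶜ,
        (hbad.isClosed_biUnion fun p _ => PrimeSpectrum.isClosed_zeroLocus _).isOpen_compl⟩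
    refine ⟨hW.fromSpec ''ᵁ N₀, ?_, fun t' ht' => ?_⟩
    · rw [← hev]
      refine ⟨_, ?_, rfl⟩
      simp only [N₀, SetLike.mem_coe, Opens.mem_mk, Set.mem_compl_iff, Set.mem_iUnion, not_exists]
      rintro p ⟨hp, hpk⟩ hle
      refine hpk fun r hr => ?_
      have := hle hr
      change r ∈ (maximalIdeal K).comap ev.toRingHom at this
      rwa [Ideal.mem_comap, maximalIdeal_eq_bot, Ideal.mem_bot] at this
    · have ht'W : t'.left (closedPoint K) ∈ W := by
        obtain ⟨q, -, hq⟩ := ht'
        rw [← hq]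
        exact hW.range_fromSpec.le ⟨q, rfl⟩
      obtain ⟨ev', hev'⟩ := hlift t' ht'W
      haveI : (RingHom.ker ev').IsPrime := RingHom.ker_isPrime _
      obtain ⟨p, hp, hple⟩ := Ideal.exists_minimalPrimes_le (J := RingHom.ker ev') (I := ⊥) bot_le
      have hpe : p ≤ RingHom.ker ev := by
        by_contra hcon
        obtain ⟨q, hq, hqe⟩ := ht'
        rw [← hev'] at hqe
        have hq' : q = (affPt ev').left (closedPoint K) := hW.fromSpec.isOpenEmbedding.injective hqe
        subst hq'
        refine hq (Set.mem_iUnion₂.2 ⟨p, ⟨hp, hcon⟩, fun r hr => ?_⟩)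
        change r ∈ (maximalIdeal K).comap ev'.toRingHom
        rw [Ideal.mem_comap, maximalIdeal_eq_bot, Ideal.mem_bot]
        exact hple hr
      haveI : p.IsPrime := hp.1.1
      haveI : IsDomain (R ⧸ p) := Ideal.Quotient.isDomain p
      let ψ := affMap (Ideal.Quotient.mkₐ K p)
      have hfac : ∀ (e : R →ₐ[K] K) (h : p ≤ RingHom.ker e),
          affPt (Ideal.Quotient.liftₐ p e fun r hr => h hr) ≫ ψ = affPt e := fun e h => by
        rw [affPt_comp, Ideal.Quotient.liftₐ_comp]
      rw [← hev, ← hev', ← hfac ev hpe, ← hfac ev' hple]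
      simp only [Category.assoc]
      exact ((hF.comp (ψ ≫ π)).eq_of_affine _ _)
  choose N hNmem hNconst using hN
  -- two complementary opens
  let O₁ : T.left.Opens := ⨆ t : {t // F t = F b}, N t.1
  let O₂ : T.left.Opens := ⨆ t : {t // F t ≠ F b}, N t.1
  have hcl : ∀ z : T.left, IsClosed ({z} : Set T.left) → z ∈ O₁ ⊔ O₂ := fun z hz => by
    obtain ⟨t, rfl⟩ := exists_point hz
    by_cases h : F t = F b
    · exact Or.inl (Opens.mem_iSup.2 ⟨⟨t, h⟩, hNmem t⟩)
    · exact Or.inr (Opens.mem_iSup.2 ⟨⟨t, h⟩, hNmem t⟩)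
  have hcov : (O₁ : Set T.left) ∪ O₂ = Set.univ := by
    by_contra hne
    obtain ⟨z, hz, hzc⟩ := nonempty_inter_closedPoints (Z := ((O₁ : Set T.left) ∪ O₂)ᶜ)
      (Set.nonempty_compl.2 hne) ((O₁.2.union O₂.2).isClosed_compl.isLocallyClosed)
    exact hz (hcl z hzc)
  have hdisj : (O₁ : Set T.left) ∩ O₂ = ∅ := by
    by_contra hne
    obtain ⟨z, ⟨hz₁, hz₂⟩, hzc⟩ := nonempty_inter_closedPoints (Set.nonempty_iff_ne_empty.2 hne)
      (O₁.2.inter O₂.2).isLocallyClosed
    obtain ⟨t, rfl⟩ := exists_point (hzc : IsClosed ({z} : Set T.left))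
    obtain ⟨⟨t₁, h₁⟩, ht₁⟩ := Opens.mem_iSup.1 hz₁
    obtain ⟨⟨t₂, h₂⟩, ht₂⟩ := Opens.mem_iSup.1 hz₂
    exact h₂ (((hNconst t₂ t ht₂).symm.trans (hNconst t₁ t ht₁)).trans h₁)
  have hclop : IsClopen (O₁ : Set T.left) := ⟨by
    rw [show (O₁ : Set T.left) = (O₂ : Set T.left)ᶜ from Set.ext fun z =>
      ⟨fun h₁ h₂ => (hdisj.le ⟨h₁, h₂⟩ : _), fun h₂ => (hcov.ge (Set.mem_univ z)).resolve_right h₂⟩]
    exact O₂.2.isClosed_compl, O₁.2⟩
  have hb : b.left (closedPoint K) ∈ O₁ := Opens.mem_iSup.2 ⟨⟨b, rfl⟩, hNmem b⟩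
  have huniv := hclop.eq_univ ⟨_, hb⟩
  obtain ⟨⟨t, ht⟩, hat⟩ := Opens.mem_iSup.1 (huniv.ge (Set.mem_univ (a.left (closedPoint K))))
  exact (hNconst t a hat).trans ht

end Groth.Agent.AVRat
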