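import Groth.Agent.AVRat.SquareGroup
import Groth.Agent.AVRat.ConnChain
import Groth.Agent.AbPrim.Dual

/-!
Connected families witnessing algebraic equivalence to zero, and their behaviour on noncomplete group varieties.
-/

set_option autoImplicit false
set_option backward.isDefEq.respectTransparency false
set_option backward.isDefEq.respectTransparency.types false
set_option linter.style.haveILetI false
set_option linter.unusedSectionVars false
set_option maxHeartbeats 1000000
set_option synthInstance.maxHeartbeats 200000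

universe u

open CategoryTheory CategoryTheory.Limits MonoidalCategory CartesianMonoidalCategory MonObj GrpObj AlgebraicGeometry
open Groth.Agent.W7Cube (pull pull_pull pull_cls)

noncomputable section

namespace Groth.Agent.AVRat

attribute [local instance] W7Cube.law

variable {K : Type u} [Field K]

/-- the member of a family at a point -/
def fib {X T : Over (Spec (CommRingCat.of K))} (d : PicLoc.PicSet (X ⊗ T).left) (t : AVDeg.one' K ⟶ T) :
    PicLoc.PicSet X.left :=
  pull (lift (𝟙 X) (pt X t)).left d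

theorem fib_map {X T T' : Over (Spec (CommRingCat.of K))} (f : T' ⟶ T) (d : PicLoc.PicSet (X ⊗ T).left)
    (t : AVDeg.one' K ⟶ T') : fib (pull (X ◁ f).left d) t = fib d (t ≫ f) := by
  rw [fib, fib, pull_pull, ← Over.comp_left, lift_whiskerLeft, pt_comp]

set_option maxHeartbeats 2000000 in
/-- the family witnessing algebraic equivalence to zero -/
theorem exists_family (X : Over (Spec (CommRingCat.of K))) [X.left.Over (Spec (CommRingCat.of K))]
    (hX : (X.left ↘ Spec (CommRingCat.of K)) = X.hom) {L : X.left.Modules} (hL : PicF.IsInvertible L)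
    (h : Pic13.IsAlgEquivZero K X.left L) :
    ∃ (T : Over (Spec (CommRingCat.of K))) (d : PicLoc.PicSet (X ⊗ T).left) (t t₀ : AVDeg.one' K ⟶ T),
      ConnectedSpace T.left ∧ LocallyOfFiniteType T.hom ∧ QuasiCompact T.hom ∧
        fib d t = PicGrp.cls L hL ∧ fib d t₀ = 1 := by
  obtain ⟨Z, q, hZ, hlft, hqc, M, hM, t, t₀, ht, ht₀, hiso, hiso₀⟩ := h
  let T : Over (Spec (CommRingCat.of K)) := Over.mk q
  let e : (X ⊗ T).left ⟶ Pic13.prodK K X.left q :=
    pullback.lift (fst X T).left (snd X T).left (by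
      rw [hX]
      exact (Over.w (fst X T)).trans (Over.w (snd X T)).symm)
  let tt : ∀ (s : Spec (CommRingCat.of K) ⟶ Z), s ≫ q = 𝟙 _ → (AVDeg.one' K ⟶ T) := fun s hs => Over.homMk s hs
  have key : ∀ (s : Spec (CommRingCat.of K) ⟶ Z) (hs : s ≫ q = 𝟙 _),
      (lift (𝟙 X) (pt X (tt s hs))).left ≫ e = Pic13.sliceAt K X.left q s hs := by
    intro s hs
    apply pullback.hom_ext
    · rw [Category.assoc, pullback.lift_fst, ← Over.comp_left, lift_fst, Over.id_left, Pic13.sliceAt, pullback.lift_fst]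
    · rw [Category.assoc, pullback.lift_snd, ← Over.comp_left, lift_snd, Pic13.sliceAt, pullback.lift_snd, pt,
        Over.comp_left, hX]
      rfl
  refine ⟨T, pull e (PicGrp.cls M hM), tt t ht, tt t₀ ht₀, hZ, hlft, hqc, ?_, ?_⟩
  · rw [fib, pull_pull, key, pull_cls, PicGrp.cls_eq_cls_iff]
    exact hiso
  · rw [fib, pull_pull, key, pull_cls, PicGrp.cls_eq_one_iff]
    exact hiso₀

variable [IsAlgClosed K] {G : Over (Spec (CommRingCat.of K))} [GrpObj G] [Smooth G.hom] [IsSeparated G.hom]
  [QuasiCompact G.hom] [GeometricallyIntegral G.hom]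

set_option maxHeartbeats 4000000 in
theorem translate_fib_of_curve {D : Over (Spec (CommRingCat.of K))} [IsIntegral D.left] [Smooth D.hom]
    [IsSeparated D.hom] [QuasiCompact D.hom] (d : PicLoc.PicSet (G ⊗ D).left) (d₀ d₁ : AVDeg.one' K ⟶ D)
    (a : 𝟙_ (Over (Spec (CommRingCat.of K))) ⟶ G) :
    pull (𝟙 G * (toUnit G ≫ a)).left (fib d d₀) * (fib d d₀)⁻¹ =
      pull (𝟙 G * (toUnit G ≫ a)).left (fib d d₁) * (fib d d₁)⁻¹ := by
  haveI : Subsingleton (Spec (CommRingCat.of K)) := inferInstanceAs (Subsingleton (PrimeSpectrum K))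
  haveI : IsIntegral G.left := GeometricallyIntegral.isIntegral_of_subsingleton G.hom
  let m : D ⊗ G ⊗ G ⟶ G ⊗ D := lift ((snd D (G ⊗ G) ≫ snd G G) * (snd D (G ⊗ G) ≫ fst G G)) (fst D (G ⊗ G))
  have hv : ∀ (x : AVDeg.one' K ⟶ D) (g : 𝟙_ (Over (Spec (CommRingCat.of K))) ⟶ G),
      val3 (pull m.left d) (pt G x) (pt G g) (𝟙 G) = pull (𝟙 G * (toUnit G ≫ g)).left (fib d x) := fun x g => by
    rw [val3, pull_pull, ← Over.comp_left, fib, pull_pull, ← Over.comp_left]
    refine congrArg (fun t => pull (Over.Hom.left t) d) ?_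
    apply CartesianMonoidalCategory.hom_ext
    · simp only [m, pt, Category.assoc, lift_fst, lift_snd, lift_snd_assoc, MonObj.comp_mul, Category.comp_id]
    · simp only [m, Category.assoc, lift_fst, lift_snd, comp_pt]
  have h1 : (𝟙 G * (toUnit G ≫ (1 : 𝟙_ (Over (Spec (CommRingCat.of K))) ⟶ G))) = 𝟙 G := by
    rw [MonObj.comp_one, _root_.mul_one]
  have r := rel_of_smooth (pull m.left d) d₀ d₁ (1 : 𝟙_ (Over (Spec (CommRingCat.of K))) ⟶ G) a
  have hid : ∀ c : PicLoc.PicSet G.left, pull (𝟙 G : G ⟶ G).left c = c := fun c => PicGrp.pullHom_id_apply _ _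
  simp only [Rel, hv, h1, hid] at r
  rw [mul_inv_eq_iff_eq_mul, mul_comm _ (fib d d₀), ← _root_.mul_assoc, eq_mul_inv_iff_mul_eq]
  rw [← r, _root_.mul_comm]

/-- **A class algebraically equivalent to zero on a group variety is translation invariant.** -/
theorem translate_eq_of_family {T : Over (Spec (CommRingCat.of K))} [LocallyOfFiniteType T.hom]
    [ConnectedSpace T.left] (d : PicLoc.PicSet (G ⊗ T).left) (t t₀ : AVDeg.one' K ⟶ T) (h₀ : fib d t₀ = 1)
    (a : 𝟙_ (Over (Spec (CommRingCat.of K))) ⟶ G) : pull (𝟙 G * (toUnit G ≫ a)).left (fib d t) = fib d t := by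
  have hF : ConstOnCurves fun s : AVDeg.one' K ⟶ T => pull (𝟙 G * (toUnit G ≫ a)).left (fib d s) * (fib d s)⁻¹ := by
    intro D hD f x₀ x₁ h1 h2 h3 h4
    simpa only [fib_map] using translate_fib_of_curve (pull (G ◁ f).left d) x₀ x₁ a
  have h := hF.eq t t₀
  simp only [h₀, map_one, inv_one, _root_.mul_one] at h
  exact mul_inv_eq_one.1 h

end Groth.Agent.AVRat
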