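import Groth.Agent.AVRat.Descend
import Groth.Agent.Rosenlicht.Product
import Groth.Agent.GeomProp.SmoothPoint

/-!
A map from a product of varieties, not assumed smooth, to an abelian variety which is trivial on the axes is trivial.
-/

set_option autoImplicit false
set_option backward.isDefEq.respectTransparency false
set_option backward.isDefEq.respectTransparency.types false
set_option linter.style.haveILetI false
set_option linter.unusedSectionVars false
set_option maxHeartbeats 2000000
set_option synthInstance.maxHeartbeats 200000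

universe u

open CategoryTheory MonoidalCategory CartesianMonoidalCategory MonObj GrpObj AlgebraicGeometry
open Groth.Agent.AgBC (dn dnHom toDn toDn_left toDn_one toDn_comp xtPr lift_xtPr prD)

noncomputable section

namespace Groth.Agent.AVRat

variable {K : Type u} [Field K]

/-- a nonempty smooth open subscheme of an integral variety, with a rational point -/
theorem exists_smooth_open [IsAlgClosed K] (X : Over (Spec (CommRingCat.of K))) [IsIntegral X.left]
    [LocallyOfFiniteType X.hom] [QuasiCompact X.hom] [IsSeparated X.hom] :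
    ∃ (U : Over (Spec (CommRingCat.of K))) (j : U ⟶ X) (_ : AVDeg.one' K ⟶ U), IsOpenImmersion j.left ∧
      IsIntegral U.left ∧ Smooth U.hom ∧ IsSeparated U.hom ∧ QuasiCompact U.hom ∧ GeometricallyIntegral U.hom := by
  haveI : LocallyOfFinitePresentation X.hom :=
    (LocallyOfFinitePresentation.iff_locallyOfFiniteType (f := X.hom)).2 inferInstance
  have hgen : genericPoint X.left ∈ X.hom.smoothLocus :=
    GeomProp.mem_smoothLocus_of_regular_perfect X.hom (by
      let _ : Field (X.left.presheaf.stalk (genericPoint X.left)) := inferInstanceAs (Field X.left.functionField)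
      infer_instance)
  let O := X.hom.smoothLocus
  haveI : Nonempty O := ⟨⟨_, hgen⟩⟩
  haveI hsm : Smooth (O.ι ≫ X.hom) := by
    rw [← Scheme.Hom.smoothLocus_eq_top_iff, ← Scheme.Hom.preimage_smoothLocus_eq]
    exact Scheme.Opens.ι_preimage_self O
  let U : Over (Spec (CommRingCat.of K)) := Over.mk (O.ι ≫ X.hom)
  haveI : IsLocallyNoetherian X.left := LocallyOfFiniteType.isLocallyNoetherian X.hom
  haveI : CompactSpace X.left := QuasiCompact.compactSpace_of_compactSpace X.hom
  haveI : AlgebraicGeometry.IsNoetherian X.left := {}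
  haveI : Nonempty U.left := ⟨(⟨_, hgen⟩ : O)⟩
  haveI : IsIntegral U.left := isIntegral_of_isOpenImmersion O.ι
  haveI : Smooth U.hom := hsm
  haveI : IsSeparated U.hom := inferInstanceAs (IsSeparated (O.ι ≫ X.hom))
  haveI : QuasiCompact U.hom := inferInstanceAs (QuasiCompact (O.ι ≫ X.hom))
  haveI : JacobsonSpace U.left := LocallyOfFiniteType.jacobsonSpace U.hom
  obtain ⟨x, -, hx⟩ := nonempty_inter_closedPoints (Z := (Set.univ : Set U.left)) Set.univ_nonempty
    isOpen_univ.isLocallyClosed
  obtain ⟨p, -⟩ := exists_point hx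
  exact ⟨U, Over.homMk O.ι rfl, p, inferInstanceAs (IsOpenImmersion O.ι), inferInstance, inferInstance,
    inferInstance, inferInstance, geometricallyIntegral_of_point p⟩

variable [IsAlgClosed K]

set_option maxHeartbeats 4000000 in
/-- a map from a product of integral varieties trivial on the axes is trivial -/
theorem eq_one_of_axes_integral (X Y A : Over (Spec (CommRingCat.of K))) [IsIntegral X.left]
    [LocallyOfFiniteType X.hom] [QuasiCompact X.hom] [IsSeparated X.hom] [IsIntegral Y.left]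
    [LocallyOfFiniteType Y.hom] [QuasiCompact Y.hom] [IsSeparated Y.hom] [GrpObj A] [IsProper A.hom]
    [GeometricallyIntegral A.hom] (x₀ : AVDeg.one' K ⟶ X) (y₀ : AVDeg.one' K ⟶ Y) (F : X ⊗ Y ⟶ A)
    (h₁ : lift (toUnit Y ≫ x₀) (𝟙 Y) ≫ F = 1) (h₂ : lift (𝟙 X) (toUnit X ≫ y₀) ≫ F = 1) : F = 1 := by
  haveI : IsCommMonObj A := isCommMonObj_of_isProper_of_geometricallyIntegral A
  obtain ⟨U, jU, u, hjU, hUi, hUs, hUsep, hUqc, hUg⟩ := exists_smooth_open X
  obtain ⟨V, jV, v, hjV, hVi, hVs, hVsep, hVqc, hVg⟩ := exists_smooth_open Y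
  haveI := hjU; haveI := hUi; haveI := hUs; haveI := hUsep; haveI := hUqc; haveI := hUg
  haveI := hjV; haveI := hVi; haveI := hVs; haveI := hVsep; haveI := hVqc; haveI := hVg
  let x₁ := u ≫ jU
  let y₁ := v ≫ jV
  let a : X ⟶ A := lift (𝟙 X) (toUnit X ≫ y₁) ≫ F
  let b : Y ⟶ A := lift (toUnit Y ≫ x₁) (𝟙 Y) ≫ F
  let c : AVDeg.one' K ⟶ A := lift x₁ y₁ ≫ F
  let D : X ⊗ Y ⟶ A := F * ((fst X Y ≫ a) * (snd X Y ≫ b) * (toUnit (X ⊗ Y) ≫ c)⁻¹)⁻¹
  have hD : (jU ⊗ₘ jV) ≫ D = 1 := by
    refine eq_one_of_axes U V A u v _ ?_ ?_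
    · simp only [D, a, b, c, x₁, y₁, MonObj.comp_mul, GrpObj.comp_inv, lift_map_assoc, lift_fst_assoc, lift_snd_assoc,
        tensorHom_fst_assoc, tensorHom_snd_assoc, lift_fst, lift_snd, comp_lift_assoc, comp_toUnit_assoc, Category.assoc,
        Category.id_comp, Category.comp_id]
      apply Additive.ofMul.injective
      simp only [ofMul_mul, ofMul_inv, ofMul_one]
      abel
    · simp only [D, a, b, c, x₁, y₁, MonObj.comp_mul, GrpObj.comp_inv, lift_map_assoc, lift_fst_assoc, lift_snd_assoc,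
        tensorHom_fst_assoc, tensorHom_snd_assoc, lift_fst, lift_snd, comp_lift_assoc, comp_toUnit_assoc, Category.assoc,
        Category.id_comp, Category.comp_id]
      apply Additive.ofMul.injective
      simp only [ofMul_mul, ofMul_inv, ofMul_one]
      abel
  haveI := Rosenlicht.isIntegral_tensor X Y
  haveI : IsOpenImmersion (jU ⊗ₘ jV).left := by
    haveI : IsOpenImmersion (jU ▷ V).left :=
      MorphismProperty.of_isPullback (P := @IsOpenImmersion) (GrpField.SchImg.isPullback_whiskerRight jU V) hjU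
    haveI : IsOpenImmersion (X ◁ jV).left :=
      MorphismProperty.of_isPullback (P := @IsOpenImmersion) (Assoc.isPullback_whiskerLeft jV) hjV
    rw [MonoidalCategory.tensorHom_def, Over.comp_left]
    infer_instance
  haveI : IsDominant (jU ⊗ₘ jV).left := ⟨(jU ⊗ₘ jV).left.opensRange.isOpen.dense
    ⟨_, ⟨(lift u v).left (IsLocalRing.closedPoint K), rfl⟩⟩⟩
  have hD1 : D = 1 := by
    apply Over.OverMorphism.ext
    refine ext_of_isDominant_of_isSeparated A.hom (by rw [Over.w, Over.w]) (jU ⊗ₘ jV).left ?_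
    rw [← Over.comp_left, ← Over.comp_left, hD, MonObj.comp_one]
  have hF : F = (fst X Y ≫ a) * (snd X Y ≫ b) * (toUnit (X ⊗ Y) ≫ c)⁻¹ := mul_inv_eq_one.1 hD1
  have k₁ : ∀ {T : Over (Spec (CommRingCat.of K))} (q : T ⟶ Y), lift (toUnit T ≫ x₀) q ≫ F = 1 := fun {T} q => by
    have e := congrArg (q ≫ ·) h₁
    simpa only [comp_lift_assoc, comp_toUnit_assoc, Category.comp_id, MonObj.comp_one] using e
  have k₂ : ∀ {T : Over (Spec (CommRingCat.of K))} (p : T ⟶ X), lift p (toUnit T ≫ y₀) ≫ F = 1 := fun {T} p => by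
    have e := congrArg (p ≫ ·) h₂
    simpa only [comp_lift_assoc, comp_toUnit_assoc, Category.comp_id, MonObj.comp_one] using e
  have e₁ : ∀ {T : Over (Spec (CommRingCat.of K))} (p : T ⟶ X) (q : T ⟶ Y),
      lift p q ≫ F = (p ≫ a) * (q ≫ b) * (toUnit T ≫ c)⁻¹ := fun p q => by
    conv_lhs => rw [hF]
    simp only [MonObj.comp_mul, GrpObj.comp_inv, lift_fst_assoc, lift_snd_assoc, comp_toUnit_assoc]
  have p₁ := (e₁ (fst X Y) (toUnit (X ⊗ Y) ≫ y₀)).symm.trans (k₂ _)
  have p₂ := (e₁ (toUnit (X ⊗ Y) ≫ x₀) (snd X Y)).symm.trans (k₁ _)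
  have p₃ := (e₁ (toUnit (X ⊗ Y) ≫ x₀) (toUnit (X ⊗ Y) ≫ y₀)).symm.trans (k₁ _)
  have p := congrArg₂ (· / ·) (congrArg₂ (· * ·) p₁ p₂) p₃
  rw [hF]
  simp only [div_eq_mul_inv, _root_.mul_one, inv_one] at p
  refine Eq.trans ?_ p
  apply Additive.ofMul.injective
  simp only [ofMul_mul, ofMul_inv]
  abel

variable {k : Type u} [Field k]

set_option maxHeartbeats 4000000 in
/-- the same over any field, for geometrically integral varieties -/
theorem eq_one_of_axes_geomIntegral (V Z A : Over (Spec (CommRingCat.of k))) [LocallyOfFiniteType V.hom]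
    [IsSeparated V.hom] [QuasiCompact V.hom] [GeometricallyIntegral V.hom] [LocallyOfFiniteType Z.hom]
    [IsSeparated Z.hom] [QuasiCompact Z.hom] [GeometricallyIntegral Z.hom] [GrpObj A] [IsProper A.hom]
    [GeometricallyIntegral A.hom] (v₀ : 𝟙_ (Over (Spec (CommRingCat.of k))) ⟶ V)
    (w₀ : 𝟙_ (Over (Spec (CommRingCat.of k))) ⟶ Z) (F : V ⊗ Z ⟶ A)
    (h₁ : lift (toUnit Z ≫ v₀) (𝟙 Z) ≫ F = 1) (h₂ : lift (𝟙 V) (toUnit V ≫ w₀) ≫ F = 1) : F = 1 := by
  let τ := geomPt k
  haveI : Surjective τ := ⟨fun _ => ⟨IsLocalRing.closedPoint _, Subsingleton.elim (α := PrimeSpectrum k) _ _⟩⟩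
  let V' := Red.bc τ V
  let Z' := Red.bc τ Z
  let A' := Red.bc τ A
  haveI : LocallyOfFiniteType V'.hom := inferInstanceAs (LocallyOfFiniteType (Limits.pullback.snd V.hom τ))
  haveI : IsSeparated V'.hom := inferInstanceAs (IsSeparated (Limits.pullback.snd V.hom τ))
  haveI : QuasiCompact V'.hom := inferInstanceAs (QuasiCompact (Limits.pullback.snd V.hom τ))
  haveI : GeometricallyIntegral V'.hom := inferInstanceAs (GeometricallyIntegral (Limits.pullback.snd V.hom τ))
  haveI : LocallyOfFiniteType Z'.hom := inferInstanceAs (LocallyOfFiniteType (Limits.pullback.snd Z.hom τ))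
  haveI : IsSeparated Z'.hom := inferInstanceAs (IsSeparated (Limits.pullback.snd Z.hom τ))
  haveI : QuasiCompact Z'.hom := inferInstanceAs (QuasiCompact (Limits.pullback.snd Z.hom τ))
  haveI : GeometricallyIntegral Z'.hom := inferInstanceAs (GeometricallyIntegral (Limits.pullback.snd Z.hom τ))
  haveI : IsProper A'.hom := inferInstanceAs (IsProper (Limits.pullback.snd A.hom τ))
  haveI : GeometricallyIntegral A'.hom := inferInstanceAs (GeometricallyIntegral (Limits.pullback.snd A.hom τ))
  haveI : Subsingleton (Spec (CommRingCat.of (AlgebraicClosure k))) :=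
    inferInstanceAs (Subsingleton (PrimeSpectrum (AlgebraicClosure k)))
  haveI : IsIntegral V'.left := GeometricallyIntegral.isIntegral_of_subsingleton V'.hom
  haveI : IsIntegral Z'.left := GeometricallyIntegral.isIntegral_of_subsingleton Z'.hom
  let m : dn τ (V' ⊗ Z') ⟶ V ⊗ Z := lift (toDn τ (fst V' Z')) (toDn τ (snd V' Z'))
  let F' : V' ⊗ Z' ⟶ A' := (Over.mapPullbackAdj τ).homEquiv (V' ⊗ Z') A (m ≫ F)
  have hF' : toDn τ F' = m ≫ F := Equiv.symm_apply_apply _ _
  let v' : AVDeg.one' (AlgebraicClosure k) ⟶ V' :=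
    (Over.mapPullbackAdj τ).homEquiv (AVDeg.one' (AlgebraicClosure k)) V (toUnit _ ≫ v₀)
  have hv' : toDn τ v' = toUnit _ ≫ v₀ := Equiv.symm_apply_apply _ _
  let z' : AVDeg.one' (AlgebraicClosure k) ⟶ Z' :=
    (Over.mapPullbackAdj τ).homEquiv (AVDeg.one' (AlgebraicClosure k)) Z (toUnit _ ≫ w₀)
  have hz' : toDn τ z' = toUnit _ ≫ w₀ := Equiv.symm_apply_apply _ _
  have hax : ∀ {U : Over (Spec (CommRingCat.of (AlgebraicClosure k)))} (a : U ⟶ V') (b : U ⟶ Z'),
      toDn τ (lift a b ≫ F') = lift (toDn τ a) (toDn τ b) ≫ F := fun a b => by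
    rw [toDn_comp, hF', ← Category.assoc]
    refine congrArg (· ≫ F) ?_
    apply CartesianMonoidalCategory.hom_ext
    · simp only [m, Category.assoc, lift_fst]
      rw [← toDn_comp, lift_fst]
    · simp only [m, Category.assoc, lift_snd]
      rw [← toDn_comp, lift_snd]
  have hinj : ∀ {U : Over (Spec (CommRingCat.of (AlgebraicClosure k)))} (a b : U ⟶ A'),
      toDn τ a = toDn τ b → a = b := fun a b h => ((Over.mapPullbackAdj τ).homEquiv _ A).symm.injective h
  have hFone : F' = 1 := by
    refine eq_one_of_axes_integral V' Z' A' v' z' F' (hinj _ _ ?_) (hinj _ _ ?_)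
    · rw [hax, toDn_one, toDn_comp, hv']
      have e := congrArg (toDn τ (𝟙 Z') ≫ ·) h₁
      simp only [MonObj.comp_one] at e
      rw [← e, ← Category.assoc (toDn τ (𝟙 Z'))]
      refine congrArg (· ≫ F) ?_
      apply CartesianMonoidalCategory.hom_ext
      · rw [Category.assoc, lift_fst, lift_fst, ← Category.assoc (toDn τ (𝟙 Z')),
          ← Category.assoc (dnHom τ (toUnit Z'))]
        exact congrArg (· ≫ v₀) (toUnit_unique _ _)
      · rw [Category.assoc, lift_snd, lift_snd, Category.comp_id]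
    · rw [hax, toDn_one, toDn_comp, hz']
      have e := congrArg (toDn τ (𝟙 V') ≫ ·) h₂
      simp only [MonObj.comp_one] at e
      rw [← e, ← Category.assoc (toDn τ (𝟙 V'))]
      refine congrArg (· ≫ F) ?_
      apply CartesianMonoidalCategory.hom_ext
      · rw [Category.assoc, lift_fst, lift_fst, Category.comp_id]
      · rw [Category.assoc, lift_snd, lift_snd, ← Category.assoc (toDn τ (𝟙 V')),
          ← Category.assoc (dnHom τ (toUnit V'))]
        exact congrArg (· ≫ w₀) (toUnit_unique _ _)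
  have hm : m.left = xtPr τ V Z := by
    rw [← lift_xtPr, lift_fst_snd, Over.id_left, Category.id_comp]
  have hmF : m ≫ F = 1 := by rw [← hF', hFone, toDn_one]
  haveI : Epi m.left := by
    rw [hm]
    haveI : Flat τ := inferInstance
    let π : (V ⊗ dn τ Z').left ⟶ (V ⊗ Z).left := PicF.XTmap V.hom (prD τ Z)
    have hb : IsPullback π (Limits.pullback.snd V.hom (dn τ Z').hom) (Limits.pullback.snd V.hom Z.hom)
        (prD τ Z).left := PicFam.isPullback_XTmap V.hom (prD τ Z)
    haveI : Flat π := MorphismProperty.of_isPullback (P := @Flat) hb.flip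
      (inferInstanceAs (Flat (Limits.pullback.fst Z.hom τ)))
    haveI : Surjective π := MorphismProperty.of_isPullback (P := @Surjective) hb.flip
      (inferInstanceAs (Surjective (Limits.pullback.fst Z.hom τ)))
    haveI : QuasiCompact π := MorphismProperty.of_isPullback (P := @QuasiCompact) hb.flip
      (inferInstanceAs (QuasiCompact (Limits.pullback.fst Z.hom τ)))
    haveI : Epi π := Flat.epi_of_flat_of_surjective _
    exact epi_comp _ _
  apply Over.OverMorphism.ext
  rw [← cancel_epi m.left, ← Over.comp_left, ← Over.comp_left, hmF, MonObj.comp_one]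

end Groth.Agent.AVRat
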