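import Groth.Agent.AVRat.CurveThrough
import Groth.Agent.SmoothCompl.Basic
import Groth.Agent.S11992
import Groth.Agent.Rigid.Over
import Groth.Agent.Rigid.Smooth
import Groth.Agent.AVDeg.Vanish
import Groth.Agent.AVAmple.Square

/-!
A map from a product of smooth varieties to an abelian variety which is trivial on the two axes is trivial.
-/

set_option autoImplicit false
set_option backward.isDefEq.respectTransparency false
set_option backward.isDefEq.respectTransparency.types false
set_option linter.style.haveILetI false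
set_option linter.unusedSectionVars false
set_option maxHeartbeats 2000000
set_option synthInstance.maxHeartbeats 200000

universe u

open CategoryTheory MonoidalCategory CartesianMonoidalCategory MonObj GrpObj AlgebraicGeometry

noncomputable section

namespace Groth.Agent.AVRat

variable {K : Type u} [Field K] [IsAlgClosed K]

/-- a closed point as a rational point -/
theorem exists_point {V : Over (Spec (CommRingCat.of K))} [LocallyOfFiniteType V.hom] {x : V.left}
    (hx : IsClosed ({x} : Set V.left)) :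
    ∃ p : AVDeg.one' K ⟶ V, p.left (IsLocalRing.closedPoint K) = x :=
  ⟨Over.homMk ((pointEquivClosedPoint V.hom).symm ⟨x, hx⟩).1 ((pointEquivClosedPoint V.hom).symm ⟨x, hx⟩).2,
    congrArg Subtype.val ((pointEquivClosedPoint V.hom).apply_symm_apply ⟨x, hx⟩)⟩

section Prod

variable {K : Type u} [Field K] {X Y : Over (Spec (CommRingCat.of K))} [Smooth X.hom] [IsSeparated X.hom] [QuasiCompact X.hom]
  [GeometricallyIntegral X.hom] [Smooth Y.hom] [IsSeparated Y.hom] [QuasiCompact Y.hom] [GeometricallyIntegral Y.hom]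

theorem smooth_prod : Smooth (X ⊗ Y).hom :=
  MorphismProperty.comp_mem _ _ _ (MorphismProperty.pullback_fst (P := @Smooth) X.hom Y.hom ‹_›) ‹_›

theorem separated_prod : IsSeparated (X ⊗ Y).hom :=
  MorphismProperty.comp_mem _ _ _ (MorphismProperty.pullback_fst (P := @IsSeparated) X.hom Y.hom ‹_›) ‹_›

theorem quasiCompact_prod : QuasiCompact (X ⊗ Y).hom :=
  MorphismProperty.comp_mem _ _ _ (MorphismProperty.pullback_fst (P := @QuasiCompact) X.hom Y.hom ‹_›) ‹_›

theorem geometricallyIntegral_prod : GeometricallyIntegral (X ⊗ Y).hom := by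
  refine ⟨fun L _ y T t₁ t₂ h => ?_⟩
  haveI : IsIntegral (Limits.pullback X.hom y) :=
    GeometricallyIntegral.geometrically_isIntegral _ _ _ (IsPullback.of_hasPullback X.hom y)
  haveI : IsLocallyNoetherian (Limits.pullback X.hom y) :=
    LocallyOfFiniteType.isLocallyNoetherian (Limits.pullback.snd X.hom y)
  let p := Limits.pullback.fst X.hom Y.hom
  have sq : IsPullback p (Limits.pullback.snd X.hom Y.hom) X.hom Y.hom := IsPullback.of_hasPullback X.hom Y.hom
  have hf : (X ⊗ Y).hom = p ≫ X.hom := rfl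
  let e : T ⟶ Limits.pullback X.hom y :=
    Limits.pullback.lift (t₁ ≫ p) t₂ (by rw [Category.assoc, ← hf]; exact h.w)
  have h1 : IsPullback t₁ e p (Limits.pullback.fst X.hom y) := by
    refine IsPullback.of_bot ?_ (Limits.pullback.lift_fst _ _ _).symm (IsPullback.of_hasPullback X.hom y)
    rw [← hf, Limits.pullback.lift_snd]
    exact h
  have h2 : IsPullback (t₁ ≫ Limits.pullback.snd X.hom Y.hom) e Y.hom (Limits.pullback.fst X.hom y ≫ X.hom) :=
    h1.paste_horiz sq.flip
  haveI : Flat e := MorphismProperty.of_isPullback h2 (inferInstance : Flat Y.hom)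
  haveI : LocallyOfFinitePresentation e :=
    MorphismProperty.of_isPullback h2 (inferInstance : LocallyOfFinitePresentation Y.hom)
  haveI : GeometricallyIntegral e := MorphismProperty.of_isPullback h2 (inferInstance : GeometricallyIntegral Y.hom)
  exact GeometricallyIntegral.isIntegral_of_isLocallyNoetherian e

end Prod

theorem geometricallyIntegral_of_point {X : Over (Spec (CommRingCat.of K))} [Smooth X.hom] [IsIntegral X.left]
    (x : AVDeg.one' K ⟶ X) : GeometricallyIntegral X.hom := by
  haveI := Rigid.geometricallyConnected_of_section X.hom x.left (Over.w x)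
  exact ClosedRep.GeomIntegral.geometricallyIntegral_of_smooth X.hom

/-- the curve case -/
theorem eq_one_of_curve (D W A : Over (Spec (CommRingCat.of K))) [IsIntegral D.left] [Smooth D.hom] [IsSeparated D.hom]
    [QuasiCompact D.hom] (hdim : topologicalKrullDim D.left = 1) [Smooth W.hom] [IsSeparated W.hom]
    [QuasiCompact W.hom] [GeometricallyIntegral W.hom] [GrpObj A] [IsProper A.hom] [GeometricallyIntegral A.hom]
    (d₀ : AVDeg.one' K ⟶ D) (w₀ : AVDeg.one' K ⟶ W) (F : D ⊗ W ⟶ A)
    (h₁ : lift (toUnit W ≫ d₀) (𝟙 W) ≫ F = 1) (h₂ : lift (𝟙 D) (toUnit D ≫ w₀) ≫ F = 1) : F = 1 := by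
  obtain ⟨Y, q, j, hj, hjq, hY, hsm, -, n, i, hi, hiq⟩ := SmoothCompl.exists_completion D.hom hdim
  haveI := hj; haveI := hY; haveI := hsm; haveI := hi
  let C : Over (Spec (CommRingCat.of K)) := Over.mk q
  haveI : IsIntegral C.left := hY
  haveI : Smooth C.hom := hsm
  haveI : IsProper C.hom := by
    change IsProper q
    rw [← hiq]
    haveI := ProjMor.isProper_toSpec n K
    infer_instance
  let jD : D ⟶ C := Over.homMk j hjq
  haveI : GeometricallyIntegral C.hom := geometricallyIntegral_of_point (d₀ ≫ jD)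
  haveI : GeometricallyIntegral D.hom := geometricallyIntegral_of_point d₀
  haveI : IsOpenImmersion jD.left := hj
  haveI : IsOpenImmersion (jD ▷ W).left :=
    MorphismProperty.of_isPullback (P := @IsOpenImmersion) (GrpField.SchImg.isPullback_whiskerRight jD W) (show IsOpenImmersion jD.left from hj)
  haveI : IsSeparated C.hom := inferInstance
  haveI : QuasiCompact C.hom := inferInstance
  haveI : Smooth (C ⊗ W).hom := smooth_prod
  haveI : IsSeparated (C ⊗ W).hom := separated_prod
  haveI : QuasiCompact (C ⊗ W).hom := quasiCompact_prod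
  haveI : GeometricallyIntegral (C ⊗ W).hom := geometricallyIntegral_prod
  haveI : IsIntegral (C ⊗ W).left := GeometricallyIntegral.isIntegral_of_subsingleton (C ⊗ W).hom
  haveI : Nonempty D.left := inferInstance
  haveI : Nonempty W.left := ⟨w₀.left (IsLocalRing.closedPoint K)⟩
  have hne : ((jD ▷ W).left.opensRange : Set (C ⊗ W).left).Nonempty :=
    ⟨_, ⟨(lift d₀ w₀).left (IsLocalRing.closedPoint K), rfl⟩⟩
  obtain ⟨g, hg, hgU⟩ := S11992.result K (C ⊗ W).left (C ⊗ W).hom A (jD ▷ W).left.opensRange hne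
    ((jD ▷ W).left.isoOpensRange.inv ≫ F.left) (by
      rw [Category.assoc, Over.w F, Iso.inv_comp_eq, Scheme.Hom.isoOpensRange_hom_ι_assoc, Over.w (jD ▷ W)])
  let G : C ⊗ W ⟶ A := Over.homMk g hg
  have hG : jD ▷ W ≫ G = F := by
    apply Over.OverMorphism.ext
    change (jD ▷ W).left ≫ g = F.left
    rw [← Scheme.Hom.isoOpensRange_hom_ι (jD ▷ W).left, Category.assoc, hgU, Iso.hom_inv_id_assoc]
  haveI : IsDominant jD.left := ⟨jD.left.opensRange.isOpen.dense
    ⟨_, ⟨d₀.left (IsLocalRing.closedPoint K), rfl⟩⟩⟩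
  have hG₂ : lift (𝟙 C) (toUnit C ≫ w₀) ≫ G = 1 := by
    apply Over.OverMorphism.ext
    refine ext_of_isDominant_of_isSeparated A.hom (by rw [Over.w, Over.w]) jD.left ?_
    rw [← Over.comp_left, ← Over.comp_left, MonObj.comp_one, ← h₂, ← hG, ← Category.assoc, ← Category.assoc]
    refine congrArg Over.Hom.left (congrArg (· ≫ G) ?_)
    apply CartesianMonoidalCategory.hom_ext <;> simp [← Category.assoc, toUnit_unique (jD ≫ toUnit C) (toUnit D)]
  have hG₁ : lift (toUnit W ≫ d₀ ≫ jD) (𝟙 W) ≫ G = 1 := by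
    rw [← h₁, ← hG, ← Category.assoc (lift (toUnit W ≫ d₀) (𝟙 W))]
    refine congrArg (· ≫ G) ?_
    apply CartesianMonoidalCategory.hom_ext <;> simp
  haveI : GeometricallyReduced C.hom := Rigid.geometricallyReduced_of_smooth _
  haveI : GeometricallyConnected C.hom :=
    Rigid.geometricallyConnected_of_section C.hom (d₀ ≫ jD).left (Over.w (d₀ ≫ jD))
  have hG0 : G = 1 := by
    have h := Rigid.eq_const_of_axes (Rigid.goodFibres_of_geometrically C.hom) (d₀ ≫ jD) w₀ (fun s => by
      rw [show W.hom ⁻¹' {s} = Set.univ from Set.eq_univ_of_forall fun w =>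
        Subsingleton.elim (α := PrimeSpectrum K) _ _]
      haveI : IsIntegral W.left := GeometricallyIntegral.isIntegral_of_subsingleton W.hom
      exact isPreconnected_univ) G (1 : AVDeg.one' K ⟶ A) (by rw [hG₂, MonObj.comp_one])
      (by rw [hG₁, MonObj.comp_one])
    rw [h, MonObj.comp_one]
  rw [← hG, hG0, MonObj.comp_one]

set_option maxHeartbeats 4000000 in
/-- **a map trivial on the axes is trivial** -/
theorem eq_one_of_axes (V W A : Over (Spec (CommRingCat.of K))) [Smooth V.hom] [IsSeparated V.hom]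
    [QuasiCompact V.hom] [GeometricallyIntegral V.hom] [Smooth W.hom] [IsSeparated W.hom]
    [QuasiCompact W.hom] [GeometricallyIntegral W.hom] [GrpObj A] [IsProper A.hom] [GeometricallyIntegral A.hom]
    (v₀ : AVDeg.one' K ⟶ V) (w₀ : AVDeg.one' K ⟶ W) (F : V ⊗ W ⟶ A)
    (h₁ : lift (toUnit W ≫ v₀) (𝟙 W) ≫ F = 1) (h₂ : lift (𝟙 V) (toUnit V ≫ w₀) ≫ F = 1) : F = 1 := by
  haveI : IsIntegral V.left := GeometricallyIntegral.isIntegral_of_subsingleton V.hom
  haveI : GeometricallyIntegral (V ⊗ W).hom := geometricallyIntegral_prod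
  haveI : Smooth (V ⊗ W).hom := smooth_prod
  haveI : IsIntegral (V ⊗ W).left := GeometricallyIntegral.isIntegral_of_subsingleton (V ⊗ W).hom
  refine AVDeg.hom_ext_points fun p => ?_
  rw [MonObj.comp_one]
  let w : AVDeg.one' K ⟶ W := p ≫ snd V W
  let h : V ⟶ A := lift (𝟙 V) (toUnit V ≫ w) ≫ F
  have hp : (p ≫ fst V W) ≫ h = p ≫ F := by
    rw [← Category.assoc]
    congr 1
    apply CartesianMonoidalCategory.hom_ext
    · simp
    · simp [w, toUnit_unique (p ≫ fst V W ≫ toUnit V) (𝟙 _)]
  rw [← hp]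
  suffices hh : h = 1 by rw [hh, MonObj.comp_one]
  let o : A.left := (1 : AVDeg.one' K ⟶ A).left (IsLocalRing.closedPoint K)
  have ho : IsClosed ({o} : Set A.left) :=
    (pointEquivClosedPoint A.hom ⟨(1 : AVDeg.one' K ⟶ A).left, AVDeg.point_comp_hom _⟩).2
  let Z : Set V.left := h.left ⁻¹' {o}
  have hZc : IsClosed Z := ho.preimage h.left.continuous
  have hv₀ : v₀ ≫ h = 1 := by
    have e := congrArg (w ≫ ·) h₁
    rw [MonObj.comp_one, ← Category.assoc] at e
    rw [← e, ← Category.assoc]
    congr 1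
    apply CartesianMonoidalCategory.hom_ext
    · simp [toUnit_unique (w ≫ toUnit W) (𝟙 _)]
    · simp [toUnit_unique (v₀ ≫ toUnit V) (𝟙 _)]
  have hmem : ∀ {b : AVDeg.one' K ⟶ V}, b ≫ h = 1 → b.left (IsLocalRing.closedPoint K) ∈ Z := fun {b} hb => by
    change h.left (b.left _) = o
    rw [← Scheme.Hom.comp_apply, ← Over.comp_left, hb]
  by_cases hZ : Z = Set.univ
  · refine AVDeg.hom_ext_points fun a => AVDeg.point_ext ?_
    rw [MonObj.comp_one, Over.comp_left, Scheme.Hom.comp_apply]
    exact Set.eq_univ_iff_forall.1 hZ _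
  exfalso
  let v := v₀.left (IsLocalRing.closedPoint K)
  have hv : IsClosed ({v} : Set V.left) := (pointEquivClosedPoint V.hom ⟨v₀.left, AVDeg.point_comp_hom _⟩).2
  obtain ⟨U, hU, hvU, -⟩ := exists_isAffineOpen_mem_and_subset (X := V.left) (x := v) (U := ⊤) trivial
  -- a function vanishing on `Z`
  obtain ⟨a, ha, haZ⟩ : ∃ a : Γ(V.left, U), a ≠ 0 ∧ ∀ z ∈ Z, z ∉ V.left.basicOpen a := by
    obtain ⟨y, hyU, hyZ⟩ : ∃ y ∈ U, y ∉ Z := by
      by_contra hcon
      push Not at hcon
      exact hZ (Set.eq_univ_of_univ_subset ((U.2.dense ⟨v, hvU⟩).closure_eq.symm.trans_le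
        (hZc.closure_subset_iff.2 hcon)))
    obtain ⟨a, ha, hya⟩ := hU.exists_basicOpen_le (V := U ⊓ ⟨Zᶜ, hZc.isOpen_compl⟩) ⟨y, hyU, hyZ⟩ hyU
    exact ⟨a, fun h0 => by
      rw [h0, Scheme.basicOpen_zero] at hya
      exact hya, fun z hz hzB => (ha hzB).2 hz⟩
  obtain ⟨D, hD, ι', hs, hsep, hqc, hdim, d, hd, hgen⟩ :=
    exists_curve_through V.hom hv hU hvU ha (haZ v (hmem hv₀))
  let D' : Over (Spec (CommRingCat.of K)) := Over.mk (ι' ≫ V.hom)
  haveI : IsIntegral D'.left := hD
  haveI : Smooth D'.hom := hs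
  haveI : IsSeparated D'.hom := hsep
  haveI : QuasiCompact D'.hom := hqc
  let ιD : D' ⟶ V := Over.homMk ι'
  have hdcl : IsClosed ({d} : Set D'.left) := by
    haveI : JacobsonSpace D'.left := LocallyOfFiniteType.jacobsonSpace D'.hom
    haveI : LocallyOfFiniteType ι' := locallyOfFiniteType_of_comp ι' V.hom
    by_contra hcl
    obtain ⟨d', hd'⟩ : ∃ d', d' ≠ d ∧ d ⤳ d' := by
      by_contra hcon
      push Not at hcon
      refine hcl (isClosed_of_closure_subset fun y hy => ?_)
      by_contra hyd
      exact hcon y hyd (specializes_iff_mem_closure.2 hy)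
    have hne : d' ≠ genericPoint D := fun he => hd'.1 (by
      rw [he]
      exact (((genericPoint_spec D).specializes trivial).antisymm (he ▸ hd'.2)).eq)
    have hdg : d = genericPoint D := by
      by_contra hdg
      let Z₀ : TopologicalSpace.IrreducibleCloseds D :=
        ⟨closure {d'}, isIrreducible_singleton.closure, isClosed_closure⟩
      let Z₁ : TopologicalSpace.IrreducibleCloseds D :=
        ⟨closure {d}, isIrreducible_singleton.closure, isClosed_closure⟩
      let Z₂ : TopologicalSpace.IrreducibleCloseds D :=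
        ⟨Set.univ, IrreducibleSpace.isIrreducible_univ D, isClosed_univ⟩
      have h01 : Z₀ < Z₁ := lt_of_le_of_ne
        (isClosed_closure.closure_subset_iff.2 (Set.singleton_subset_iff.2 (specializes_iff_mem_closure.1 hd'.2)))
        fun he => hd'.1 (by
          have hd'' : d' ⤳ d := specializes_iff_mem_closure.2
            ((Set.ext_iff.1 (congrArg TopologicalSpace.IrreducibleCloseds.carrier he) d).2
              (subset_closure (Set.mem_singleton d)))
          exact (hd''.antisymm hd'.2).eq)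
      have h12 : Z₁ < Z₂ := lt_of_le_of_ne (fun y _ => Set.mem_univ y) fun he => hdg
        ((genericPoint_spec D).eq (show IsGenericPoint d Set.univ from
          congrArg TopologicalSpace.IrreducibleCloseds.carrier he)).symm
      have h2 : (2 : WithBot ℕ∞) ≤ topologicalKrullDim D :=
        le_iSup_of_le ⟨2, ![Z₀, Z₁, Z₂], fun i => by fin_cases i <;> assumption⟩ le_rfl
      rw [hdim] at h2
      exact absurd h2 (by decide)
    subst hdg
    exact haZ v (hmem hv₀) (hd ▸ hgen)
  obtain ⟨d₀, hd₀⟩ := exists_point hdcl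
  have hdv : d₀ ≫ ιD = v₀ := AVDeg.point_ext (by
    rw [Over.comp_left, Scheme.Hom.comp_apply, hd₀]
    exact hd)
  have hF := eq_one_of_curve D' W A hdim d₀ w₀ (ιD ▷ W ≫ F) (by
    rw [← h₁, ← Category.assoc]
    congr 1
    apply CartesianMonoidalCategory.hom_ext <;> simp [hdv]) (by
    rw [← MonObj.comp_one ιD, ← h₂, ← Category.assoc, ← Category.assoc]
    congr 1
    apply CartesianMonoidalCategory.hom_ext
    · simp
    · simp [← Category.assoc, toUnit_unique (ιD ≫ toUnit V) (toUnit D')])
  have hιh : ιD ≫ h = 1 := by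
    have e := congrArg (lift (𝟙 D') (toUnit D' ≫ w) ≫ ·) hF
    simp only [MonObj.comp_one] at e
    rw [← e]
    change ιD ≫ lift (𝟙 V) (toUnit V ≫ w) ≫ F = _
    rw [← Category.assoc ιD, ← Category.assoc (lift (𝟙 D') (toUnit D' ≫ w))]
    refine congrArg (· ≫ F) ?_
    apply CartesianMonoidalCategory.hom_ext
    · simp
    · simp [← Category.assoc, toUnit_unique (ιD ≫ toUnit V) (toUnit D')]
  refine haZ _ ?_ hgen
  change h.left (ιD.left _) = o
  rw [← Scheme.Hom.comp_apply, ← Over.comp_left, hιh, Hom.one_def, Over.comp_left, Scheme.Hom.comp_apply]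
  change η[A].left _ = ((1 : AVDeg.one' K ⟶ A)).left _
  rw [show (η[A] : AVDeg.one' K ⟶ A) = 1 by rw [Hom.one_def, toUnit_unit, Category.id_comp]]
  exact congrArg _ (Subsingleton.elim (α := PrimeSpectrum K) _ _)

end Groth.Agent.AVRat
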