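import Groth.Agent.AVRat.Core
import Groth.Agent.EtSmDescent.Smooth
import Groth.Agent.S0419
import Groth.Agent.LangMap.Main
import Groth.Agent.LocNoethTop.Basic
import Groth.Agent.GenDegree.Semicont
import Groth.Agent.RG.Dev.IntegralFibre
import Groth.Agent.Rigid.FibreTranslate

/-!
Any two rational points of a smooth variety over an algebraically closed field are joined by a chain of two
smooth connected curves: through a point `a` one takes the pullbacks of the lines through the origin along
etale coordinates at `a`.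
-/

set_option autoImplicit false
set_option backward.isDefEq.respectTransparency false
set_option backward.isDefEq.respectTransparency.types false
set_option linter.style.haveILetI false
set_option linter.unusedSectionVars false
set_option maxHeartbeats 1000000
set_option synthInstance.maxHeartbeats 200000

universe u

open CategoryTheory CategoryTheory.Limits MonoidalCategory CartesianMonoidalCategory AlgebraicGeometry
open TopologicalSpace

noncomputable section

namespace Groth.Agent.AVRat

variable {K : Type u} [Field K]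

theorem locallyQuasiFinite_of_etale_map {X Y : Scheme.{u}} (h : X ⟶ Y) [Etale h] : LocallyQuasiFinite h := by
  refine ⟨fun {U} hU {W} hW e => ?_⟩
  have := HasRingHomProperty.appLE (P := @Etale) h inferInstance ⟨U, hU⟩ ⟨W, hW⟩ e
  algebraize [(h.appLE U W e).hom]
  show @Algebra.QuasiFinite _ _ _ _ (h.appLE U W e).hom.toAlgebra
  infer_instance

/-- Two rational points are equal or lie on a smooth connected curve. -/
def Linked (U : Over (Spec (CommRingCat.of K))) (a b : AVDeg.one' K ⟶ U) : Prop :=
  a = b ∨ ∃ (D : Over (Spec (CommRingCat.of K))) (_ : IsIntegral D.left) (f : D ⟶ U) (d₀ d₁ : AVDeg.one' K ⟶ D),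
    Smooth D.hom ∧ IsSeparated D.hom ∧ QuasiCompact D.hom ∧ topologicalKrullDim D.left = 1 ∧
      d₀ ≫ f = a ∧ d₁ ≫ f = b

variable (K) in
/-- the polynomial ring in `n` variables -/
abbrev Pol (n : ℕ) : Type u := MvPolynomial (Fin n) K

variable (K) in
/-- the structure map of affine space -/
abbrev strA (n : ℕ) : Spec (CommRingCat.of (Pol K n)) ⟶ Spec (CommRingCat.of K) :=
  EtSmDescent.affProj K n

variable (K) in
/-- lines through the origin of affine space, by slope and parameter -/
def lineHom (m : ℕ) : Pol K (m + 1) →+* Polynomial (Pol K m) :=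
  (MvPolynomial.aeval (Fin.cases (Polynomial.X : Polynomial (Pol K m))
    fun i => Polynomial.X * Polynomial.C (MvPolynomial.X i))).toRingHom

theorem lineHom_C (m : ℕ) (r : K) :
    lineHom K m (MvPolynomial.C r) = Polynomial.C (MvPolynomial.C r) := by
  simp [lineHom]

theorem lineHom_injective (m : ℕ) : Function.Injective (lineHom K m) := by
  let F := FractionRing (Pol K (m + 1))
  let q : Polynomial (Pol K m) →+* F := Polynomial.eval₂RingHom
    ((MvPolynomial.aeval fun i : Fin m => algebraMap (Pol K (m + 1)) F (MvPolynomial.X i.succ) /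
      algebraMap (Pol K (m + 1)) F (MvPolynomial.X 0) : Pol K m →ₐ[K] F).toRingHom)
    (algebraMap (Pol K (m + 1)) F (MvPolynomial.X 0))
  have h0 : algebraMap (Pol K (m + 1)) F (MvPolynomial.X 0) ≠ 0 := fun h =>
    MvPolynomial.X_ne_zero (R := K) (0 : Fin (m + 1)) (IsFractionRing.injective (Pol K (m + 1)) F
      (h.trans (map_zero _).symm))
  have e : q.comp (lineHom K m) = algebraMap (Pol K (m + 1)) F := by
    refine MvPolynomial.ringHom_ext (fun r => ?_) fun i => ?_
    · rw [RingHom.comp_apply, lineHom_C, Polynomial.coe_eval₂RingHom, Polynomial.eval₂_C]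
      exact (MvPolynomial.aeval_C _ r).trans (IsScalarTower.algebraMap_apply K (Pol K (m + 1)) F r)
    · rw [RingHom.comp_apply]
      refine Fin.cases ?_ (fun i => ?_) i
      · rw [show lineHom K m (MvPolynomial.X 0) = Polynomial.X from MvPolynomial.aeval_X _ _]
        exact Polynomial.eval₂_X _ _
      · rw [show lineHom K m (MvPolynomial.X i.succ) = Polynomial.X * Polynomial.C (MvPolynomial.X i) from
          MvPolynomial.aeval_X _ _, map_mul, Polynomial.coe_eval₂RingHom, Polynomial.eval₂_X, Polynomial.eval₂_C,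
          AlgHom.toRingHom_eq_coe, RingHom.coe_coe, MvPolynomial.aeval_X]
        exact mul_div_cancel₀ _ h0
  intro x y h
  refine IsFractionRing.injective (Pol K (m + 1)) F ?_
  rw [← e, RingHom.comp_apply, RingHom.comp_apply, h]

variable [IsAlgClosed K]

theorem point_ext {V : Over (Spec (CommRingCat.of K))} [LocallyOfFiniteType V.hom] {a b : AVDeg.one' K ⟶ V}
    (h : a.left (IsLocalRing.closedPoint K) = b.left (IsLocalRing.closedPoint K)) : a = b := by
  have e : (⟨a.left, Over.w a⟩ : {p // p ≫ V.hom = 𝟙 _}) = ⟨b.left, Over.w b⟩ :=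
    (pointEquivClosedPoint V.hom).injective (Subtype.ext h)
  exact Over.OverMorphism.ext (congrArg Subtype.val e)

/-- etale coordinates centred at a point -/
theorem exists_coords {U : Over (Spec (CommRingCat.of K))} [Smooth U.hom] (a : AVDeg.one' K ⟶ U) :
    ∃ (n : ℕ) (W : U.left.Opens) (G : W.toScheme ⟶ Spec (CommRingCat.of (Pol K n)))
      (aW : Spec (CommRingCat.of K) ⟶ W.toScheme), IsAffineOpen W ∧ aW ≫ W.ι = a.left ∧ Etale G ∧
        G ≫ strA K n = W.ι ≫ U.hom ∧
        aW ≫ G = Spec.map (CommRingCat.ofHom (MvPolynomial.eval (0 : Fin n → K))) := by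
  obtain ⟨U₀, hU₀, W, hW, hxW, e, hf⟩ := Smooth.exists_isStandardSmooth U.hom (a.left (IsLocalRing.closedPoint K))
  haveI : Subsingleton (Spec (CommRingCat.of K)) := inferInstanceAs (Subsingleton (PrimeSpectrum K))
  have htop : U₀ = ⊤ := Opens.ext (Set.eq_univ_of_forall fun p => by
    rw [Subsingleton.elim p (U.hom (a.left (IsLocalRing.closedPoint K)))]
    exact e hxW)
  subst htop
  let φ : CommRingCat.of K ⟶ Γ(U.left, W) := (Scheme.ΓSpecIso (CommRingCat.of K)).inv ≫ U.hom.appLE ⊤ W e
  have hφ : φ.hom.IsStandardSmooth := by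
    refine RingHom.isStandardSmooth_respectsIso.2 _ (Scheme.ΓSpecIso (CommRingCat.of K)).symm.commRingCatIsoToRingEquiv ?_
    exact hf
  obtain ⟨n, g, hg, hget⟩ := hφ.exists_etale_mvPolynomial
  let G₀ : W.toScheme ⟶ Spec (CommRingCat.of (Pol K n)) := hW.isoSpec.hom ≫ Spec.map (CommRingCat.ofHom g)
  have hspec : Spec.map φ = hW.fromSpec ≫ U.hom := by
    rw [← hU₀.SpecMap_appLE_fromSpec U.hom hW e, Spec.map_comp, IsAffineOpen.fromSpec_top, Scheme.isoSpec_Spec_inv]
  have hG₀str : G₀ ≫ strA K n = W.ι ≫ U.hom := by
    rw [Category.assoc, ← Spec.map_comp, ← CommRingCat.ofHom_comp, hg, CommRingCat.ofHom_hom, hspec,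
      ← IsAffineOpen.isoSpec_inv_ι, Category.assoc, Iso.hom_inv_id_assoc]
  have hrange : Set.range a.left ⊆ Set.range W.ι := by
    rw [Scheme.Opens.range_ι]
    rintro _ ⟨p, rfl⟩
    rwa [show p = IsLocalRing.closedPoint K from Subsingleton.elim (α := ↥(Spec (CommRingCat.of K))) _ _]
  let aW : Spec (CommRingCat.of K) ⟶ W.toScheme := IsOpenImmersion.lift W.ι a.left hrange
  have haW : aW ≫ W.ι = a.left := IsOpenImmersion.lift_fac _ _ _
  let ψ : CommRingCat.of (Pol K n) ⟶ CommRingCat.of K := Spec.preimage (aW ≫ G₀)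
  have hψ : Spec.map ψ = aW ≫ G₀ := Spec.map_preimage _
  have hψC : CommRingCat.ofHom (MvPolynomial.C : K →+* Pol K n) ≫ ψ = 𝟙 _ := by
    apply Spec.map_injective
    rw [Spec.map_comp, hψ, Spec.map_id, Category.assoc, show Spec.map (CommRingCat.ofHom _) = strA K n from rfl,
      hG₀str, reassoc_of% haW]
    exact Over.w a
  let p : Fin n → K := fun i => ψ.hom (MvPolynomial.X i)
  let T := EtSmDescent.translate fun i => -p i
  have hTi : IsIso (CommRingCat.ofHom T.toRingHom) :=
    (RingEquiv.ofBijective T.toRingHom (EtSmDescent.bijective_translate _)).toCommRingCatIso.isIso_hom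
  let G := G₀ ≫ Spec.map (CommRingCat.ofHom T.toRingHom)
  refine ⟨n, W, G, aW, hW, haW, ?_, ?_, ?_⟩
  · haveI : Etale (Spec.map (CommRingCat.ofHom g)) := (HasRingHomProperty.Spec_iff (P := @Etale)).2 hget
    haveI := hTi
    infer_instance
  · rw [← hG₀str, Category.assoc, ← Spec.map_comp, ← CommRingCat.ofHom_comp]
    congr 2
    exact congrArg CommRingCat.ofHom (RingHom.ext fun r => by simp [T, EtSmDescent.translate])
  · rw [← Category.assoc, ← hψ, ← Spec.map_comp]
    congr 1
    refine CommRingCat.hom_ext (MvPolynomial.ringHom_ext (fun r => ?_) fun i => ?_)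
    · change ψ.hom (T (MvPolynomial.C r)) = MvPolynomial.eval 0 (MvPolynomial.C r)
      have := congrArg (fun f : CommRingCat.of K ⟶ CommRingCat.of K => f.hom r) hψC
      simpa [T, EtSmDescent.translate] using this
    · change ψ.hom (T (MvPolynomial.X i)) = MvPolynomial.eval 0 (MvPolynomial.X i)
      have := congrArg (fun f : CommRingCat.of K ⟶ CommRingCat.of K => f.hom (-p i)) hψC
      simp only [CommRingCat.hom_comp, CommRingCat.hom_ofHom, RingHom.comp_apply, CommRingCat.hom_id,
        RingHom.id_apply] at this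
      rw [show T (MvPolynomial.X i) = MvPolynomial.X i + MvPolynomial.C (-p i) from EtSmDescent.translate_X _ i,
        map_add, this, MvPolynomial.eval_X, Pi.zero_apply]
      exact add_neg_cancel _

set_option maxHeartbeats 4000000 in
/-- **Every rational point is linked to all rational points of a nonempty open.** -/
theorem exists_linked_open (U : Over (Spec (CommRingCat.of K))) [IsIntegral U.left] [Smooth U.hom]
    [IsSeparated U.hom] [QuasiCompact U.hom] (a : AVDeg.one' K ⟶ U) :
    ∃ O : U.left.Opens, (O : Set U.left).Nonempty ∧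
      ∀ b : AVDeg.one' K ⟶ U, b.left (IsLocalRing.closedPoint K) ∈ O → Linked U a b := by
  haveI : Subsingleton (Spec (CommRingCat.of K)) := inferInstanceAs (Subsingleton (PrimeSpectrum K))
  obtain ⟨n, W, G, aW, hW, haW, hG, hGs, haG⟩ := exists_coords a
  haveI := hG
  haveI : Nonempty W := ⟨aW (IsLocalRing.closedPoint K)⟩
  haveI : IsIntegral W.toScheme := isIntegral_of_isOpenImmersion W.ι
  haveI : Nonempty (Spec (CommRingCat.of K)) := inferInstanceAs (Nonempty (PrimeSpectrum K))
  cases n with
  | zero =>
    refine ⟨W, ⟨_, (aW (IsLocalRing.closedPoint K)).2⟩, fun b hb => Or.inl (point_ext ?_)⟩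
    haveI : Subsingleton (Spec (CommRingCat.of (Pol K 0))) :=
      (Equiv.subsingleton_congr (PrimeSpectrum.homeomorphOfRingEquiv
        (MvPolynomial.isEmptyRingEquiv K (Fin 0))).toEquiv).2 (inferInstanceAs (Subsingleton (PrimeSpectrum K)))
    have hd : DiscreteTopology W.toScheme := by
      refine discreteTopology_iff_isOpen_singleton.2 fun w => ?_
      haveI := locallyQuasiFinite_of_etale_map G
      have h := G.isDiscrete_preimage_singleton (G w)
      have hu : G ⁻¹' {G w} = Set.univ := Set.eq_univ_of_forall fun v => Subsingleton.elim (α := ↥(Spec (CommRingCat.of (Pol K 0)))) _ _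
      rw [hu, isDiscrete_univ_iff] at h
      exact isOpen_discrete _
    have hsub : Subsingleton W.toScheme := ⟨fun v w => by
      obtain ⟨z, hz, hz'⟩ := nonempty_preirreducible_inter (isOpen_discrete {v}) (isOpen_discrete {w})
        ⟨v, rfl⟩ ⟨w, rfl⟩
      exact hz.symm.trans hz'⟩
    have := congrArg W.ι (Subsingleton.elim (α := ↥W.toScheme) (aW (IsLocalRing.closedPoint K))
      ⟨b.left (IsLocalRing.closedPoint K), hb⟩)
    rw [← Scheme.Hom.comp_apply, haW] at this
    exact this
  | succ m =>
    let R := Pol K m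
    let B := Polynomial R
    let S₀ := Spec (CommRingCat.of R)
    let ψ : Spec (CommRingCat.of B) ⟶ Spec (CommRingCat.of (Pol K (m + 1))) :=
      Spec.map (CommRingCat.ofHom (lineHom K m))
    let pr : Spec (CommRingCat.of B) ⟶ S₀ := Spec.map (CommRingCat.ofHom (Polynomial.C : R →+* B))
    let z : S₀ ⟶ Spec (CommRingCat.of B) := Spec.map (CommRingCat.ofHom (Polynomial.evalRingHom (0 : R)))
    let str : S₀ ⟶ Spec (CommRingCat.of K) := strA K m
    haveI : Smooth pr := by
      rw [HasRingHomProperty.Spec_iff (P := @Smooth), CommRingCat.hom_ofHom, ← Polynomial.algebraMap_eq]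
      exact RingHom.smooth_algebraMap.2 ⟨inferInstance, inferInstance⟩
    haveI : Smooth str := EtSmDescent.smooth_affProj K m
    have hzpr : z ≫ pr = 𝟙 S₀ := by
      rw [← Spec.map_comp, ← CommRingCat.ofHom_comp, show (Polynomial.evalRingHom (0 : R)).comp Polynomial.C =
        RingHom.id R from RingHom.ext fun x => Polynomial.eval_C]
      exact Spec.map_id _
    have hψs : ψ ≫ strA K (m + 1) = pr ≫ str := by
      rw [← Spec.map_comp, ← Spec.map_comp, ← CommRingCat.ofHom_comp, ← CommRingCat.ofHom_comp]
      exact congrArg (fun f => Spec.map (CommRingCat.ofHom f)) (RingHom.ext fun r => lineHom_C m r)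
    let Y := pullback G ψ
    have hσ : (str ≫ aW) ≫ G = z ≫ ψ := by
      rw [Category.assoc, haG, ← Spec.map_comp, ← Spec.map_comp, ← CommRingCat.ofHom_comp, ← CommRingCat.ofHom_comp]
      refine congrArg (fun f => Spec.map (CommRingCat.ofHom f))
        (MvPolynomial.ringHom_ext (fun r => ?_) fun i => ?_)
      · simp only [RingHom.comp_apply, MvPolynomial.eval_C]
        change MvPolynomial.C r = Polynomial.eval 0 (lineHom K m (MvPolynomial.C r))
        rw [lineHom_C, Polynomial.eval_C]
      · refine Fin.cases ?_ (fun j => ?_) i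
        · rw [RingHom.comp_apply, RingHom.comp_apply,
            show lineHom K m (MvPolynomial.X 0) = Polynomial.X from MvPolynomial.aeval_X _ _,
            MvPolynomial.eval_X, Pi.zero_apply, map_zero]
          exact Polynomial.eval_X.symm
        · rw [RingHom.comp_apply, RingHom.comp_apply, show lineHom K m (MvPolynomial.X j.succ) =
            Polynomial.X * Polynomial.C (MvPolynomial.X j) from MvPolynomial.aeval_X _ _,
            MvPolynomial.eval_X, Pi.zero_apply, map_zero, map_mul]
          exact (mul_eq_zero_of_left Polynomial.eval_X _).symm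
    let σ : S₀ ⟶ Y := pullback.lift (str ≫ aW) z hσ
    let f : Y ⟶ S₀ := pullback.snd G ψ ≫ pr
    haveI : Smooth f := inferInstanceAs (Smooth (pullback.snd G ψ ≫ pr))
    have hσf : σ ≫ f = 𝟙 S₀ := by rw [pullback.lift_snd_assoc, hzpr]
    haveI : IsAffine W.toScheme := hW
    haveI : Smooth (f ≫ str) := inferInstance
    haveI : IsLocallyNoetherian Y := LocallyOfFiniteType.isLocallyNoetherian (f ≫ str)
    haveI : CompactSpace Y := inferInstance
    haveI : IsNoetherian Y := {}
    haveI : Nonempty S₀ := inferInstanceAs (Nonempty (PrimeSpectrum R))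
    let s₀ : S₀ := Classical.arbitrary _
    let C₀ : Y.Opens := ⟨connectedComponent (σ s₀), LocNoethTop.isOpen_connectedComponent_of_noetherian _⟩
    haveI : ConnectedSpace C₀.toScheme := Subtype.connectedSpace isConnected_connectedComponent
    haveI : CompactSpace C₀.toScheme :=
      isCompact_iff_compactSpace.1 (isClosed_connectedComponent (x := σ s₀)).isCompact
    let f₁ : C₀.toScheme ⟶ S₀ := C₀.ι ≫ f
    haveI : Smooth f₁ := inferInstanceAs (Smooth (C₀.ι ≫ f))
    haveI : IsIntegral C₀.toScheme := RGDev.isIntegral_of_smooth_connected (f₁ ≫ str)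
    haveI : IrreducibleSpace S₀ := inferInstanceAs (IrreducibleSpace (PrimeSpectrum R))
    have hσC : Set.range σ ⊆ Set.range C₀.ι := by
      rw [Scheme.Opens.range_ι]
      exact (isPreconnected_range σ.continuous).subset_connectedComponent ⟨s₀, rfl⟩
    let σ₁ : S₀ ⟶ C₀.toScheme := IsOpenImmersion.lift C₀.ι σ hσC
    have hσ₁ : σ₁ ≫ C₀.ι = σ := IsOpenImmersion.lift_fac _ _ _
    have hσf₁ : σ₁ ≫ f₁ = 𝟙 S₀ := by rw [← Category.assoc, hσ₁, hσf]
    -- the generic fibre
    let η := genericPoint S₀
    let ξ := genericPoint C₀.toScheme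
    have hξ : f₁ ξ = η := by
      have h := (genericPoint_spec C₀.toScheme).image f₁.continuous
      rw [Set.image_univ] at h
      have hc : closure (Set.range f₁) = Set.univ := Dense.closure_eq (Function.Surjective.denseRange
        (fun s => ⟨σ₁ s, by rw [← Scheme.Hom.comp_apply, hσf₁]; rfl⟩))
      rw [hc] at h
      exact h.eq (genericPoint_spec S₀)
    haveI : ConnectedSpace (f₁.fiber η) := by
      haveI : ConnectedSpace (f₁ ⁻¹' {η}) := Subtype.connectedSpace
        ⟨⟨ξ, hξ⟩, IsPreconnected.subset_closure (isPreconnected_singleton (x := ξ)) (Set.singleton_subset_iff.2 hξ)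
          (fun y _ => (genericPoint_specializes y).mem_closure)⟩
      exact (f₁.fiberHomeo η).symm.surjective.connectedSpace (f₁.fiberHomeo η).symm.continuous
    haveI : Smooth (f₁.fiberToSpecResidueField η) :=
      inferInstanceAs (Smooth (pullback.snd f₁ (S₀.fromSpecResidueField η)))
    haveI : GeometricallyConnected (f₁.fiberToSpecResidueField η) :=
      Rigid.geometricallyConnected_of_section (k := S₀.residueField η) (f₁.fiberToSpecResidueField η)
        (pullback.lift (S₀.fromSpecResidueField η ≫ σ₁) (𝟙 _)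
          (by rw [Category.assoc, hσf₁, Category.comp_id, Category.id_comp]))
        (pullback.lift_snd _ _ _)
    haveI : GeometricallyIntegral (f₁.fiberToSpecResidueField η) :=
      ClosedRep.GeomIntegral.geometricallyIntegral_of_smooth _
    haveI : QuasiCompact f₁ := (HasAffineProperty.iff_of_isAffine (P := @QuasiCompact)).mpr ‹CompactSpace C₀.toScheme›
    obtain ⟨V, hV, hVirr⟩ := S0419.result f₁ inferInstance
    -- dominance
    let q : C₀.toScheme ⟶ W.toScheme := C₀.ι ≫ pullback.fst G ψ
    let sB : C₀.toScheme ⟶ Spec (CommRingCat.of B) := C₀.ι ≫ pullback.snd G ψ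
    haveI : Etale sB := inferInstanceAs (Etale (C₀.ι ≫ pullback.snd G ψ))
    haveI : IsDomain B := inferInstance
    have hsB : sB ξ = genericPoint (Spec (CommRingCat.of B)) := by
      haveI : IsDominant sB := ⟨sB.isOpenMap.isOpen_range.dense (Set.range_nonempty _)⟩
      have h := (genericPoint_spec C₀.toScheme).image sB.continuous
      rw [Set.image_univ, sB.denseRange.closure_range] at h
      exact h.eq (genericPoint_spec _)
    have hψη : ψ (genericPoint (Spec (CommRingCat.of B))) = genericPoint (Spec (CommRingCat.of (Pol K (m + 1)))) := by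
      rw [genericPoint_eq_bot_of_affine, genericPoint_eq_bot_of_affine]
      exact PrimeSpectrum.ext (Ideal.comap_bot_of_injective _ (lineHom_injective m))
    have hqξ : q ξ = genericPoint W.toScheme := by
      have hG' : G (q ξ) = genericPoint (Spec (CommRingCat.of (Pol K (m + 1)))) := by
        rw [← hψη, ← hsB, ← Scheme.Hom.comp_apply, ← Scheme.Hom.comp_apply, Category.assoc, Category.assoc,
          pullback.condition]
      have hGη : G (genericPoint W.toScheme) = genericPoint (Spec (CommRingCat.of (Pol K (m + 1)))) := by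
        have h := (genericPoint_specializes (q ξ)).map G.continuous
        rw [hG'] at h
        exact (h.antisymm (genericPoint_specializes _)).eq
      have hsp : genericPoint W.toScheme ⤳ q ξ := genericPoint_specializes _
      by_contra hne
      haveI := locallyQuasiFinite_of_etale_map G
      let F : Set W.toScheme := G ⁻¹' {G (q ξ)}
      have h1 : (⟨genericPoint W.toScheme, hGη.trans hG'.symm⟩ : F) ⤳ ⟨q ξ, rfl⟩ :=
        (subtype_specializes_iff _ _).2 hsp
      haveI : DiscreteTopology F := (G.isDiscrete_preimage_singleton (G (q ξ))).to_subtype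
      exact hne (congrArg Subtype.val h1.eq).symm
    let O₁ : C₀.toScheme.Opens := f₁ ⁻¹ᵁ V
    haveI : QuasiCompact q := inferInstance
    haveI : LocallyOfFinitePresentation q := by
      haveI : LocallyOfFinitePresentation (q ≫ W.ι ≫ U.hom) := by
        rw [show q ≫ W.ι ≫ U.hom = f₁ ≫ str by
          rw [← hGs, Category.assoc, pullback.condition_assoc, hψs]
          simp [f₁, f]]
        infer_instance
      haveI : LocallyOfFiniteType q := locallyOfFiniteType_of_comp q (W.ι ≫ U.hom)
      haveI : IsLocallyNoetherian W.toScheme := LocallyOfFiniteType.isLocallyNoetherian (W.ι ≫ U.hom)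
      exact LocallyOfFinitePresentation.iff_locallyOfFiniteType.2 inferInstance
    have hξO : ξ ∈ O₁ := by
      change f₁ ξ ∈ V
      rw [hξ]
      exact ((genericPoint_spec S₀).mem_open_set_iff V.2).2 (by simpa using hV)
    haveI : IsNoetherian C₀.toScheme := by
      haveI : IsLocallyNoetherian C₀.toScheme := LocallyOfFiniteType.isLocallyNoetherian (f₁ ≫ str)
      exact {}
    have hcons : Topology.IsConstructible (q '' (O₁ : Set C₀.toScheme)) :=
      q.isConstructible_image (IsRetrocompact.isConstructible O₁.2 fun _ _ _ => NoetherianSpace.isCompact _)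
    obtain ⟨O, hO, hOne, hOsub⟩ := LangMap.exists_open_subset_of_genericPoint hcons (hqξ ▸ Set.mem_image_of_mem q hξO)
    refine ⟨W.ι ''ᵁ ⟨O, hO⟩, hOne.image _, fun b hb => ?_⟩
    obtain ⟨w, hw, hwb⟩ := hb
    obtain ⟨y₀, hy₀, hy₀w⟩ := hOsub hw
    have hwcl : IsClosed ({w} : Set W.toScheme) := by
      have h : IsClosed ({b.left (IsLocalRing.closedPoint K)} : Set U.left) :=
        ((pointEquivClosedPoint U.hom) ⟨b.left, Over.w b⟩).2
      have := h.preimage W.ι.continuous
      have e : W.ι ⁻¹' {b.left (IsLocalRing.closedPoint K)} = {w} := by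
        ext v
        exact ⟨fun hv => W.ι.isOpenEmbedding.injective (hv.trans hwb.symm), fun hv => by rw [hv]; exact hwb⟩
      rwa [e] at this
    haveI : LocallyOfFiniteType (f₁ ≫ str) := inferInstance
    haveI : JacobsonSpace C₀.toScheme := LocallyOfFiniteType.jacobsonSpace (f₁ ≫ str)
    obtain ⟨y, hy, hycl⟩ := nonempty_inter_closedPoints (Z := q ⁻¹' {w} ∩ (O₁ : Set C₀.toScheme))
      ⟨y₀, hy₀w, hy₀⟩ ((hwcl.preimage q.continuous).isLocallyClosed.inter O₁.2.isLocallyClosed)
    haveI : LocallyOfFiniteType (Over.mk (f₁ ≫ str)).hom := inferInstanceAs (LocallyOfFiniteType (f₁ ≫ str))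
    obtain ⟨p, hp⟩ := exists_point (V := Over.mk (f₁ ≫ str)) hycl
    have hps : (p.left ≫ f₁) ≫ str = 𝟙 _ := (Category.assoc _ _ _).trans (Over.w p)
    let s : Spec (CommRingCat.of K) ⟶ S₀ := p.left ≫ f₁
    have hsV : Set.range s ⊆ Set.range V.ι := by
      rw [Scheme.Opens.range_ι]
      rintro _ ⟨t, rfl⟩
      rw [show t = IsLocalRing.closedPoint K from Subsingleton.elim (α := ↥(Spec (CommRingCat.of K))) _ _]
      change f₁ (p.left (IsLocalRing.closedPoint K)) ∈ V
      erw [hp]
      exact hy.2
    -- the curve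
    let F : Scheme.{u} := pullback f₁ s
    let sV := IsOpenImmersion.lift V.ι s hsV
    haveI : IrreducibleSpace F := by
      have h : IsPullback (pullback.fst f₁ s) (pullback.snd f₁ s) f₁ (sV ≫ V.ι) := by
        rw [IsOpenImmersion.lift_fac]
        exact IsPullback.of_hasPullback _ _
      have hr : Set.range (pullback.fst f₁ s) ⊆ Set.range (f₁ ⁻¹ᵁ V).ι := by
        rw [Scheme.Opens.range_ι]
        rintro _ ⟨t, rfl⟩
        change f₁ (pullback.fst f₁ s t) ∈ V
        rw [← Scheme.Hom.comp_apply, pullback.condition, Scheme.Hom.comp_apply]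
        obtain ⟨v, hv⟩ := hsV ⟨pullback.snd f₁ s t, rfl⟩
        rw [← hv]
        exact v.2
      let l := IsOpenImmersion.lift (f₁ ⁻¹ᵁ V).ι (pullback.fst f₁ s) hr
      have h1 : IsPullback (l ≫ (f₁ ⁻¹ᵁ V).ι) (pullback.snd f₁ s) f₁ (sV ≫ V.ι) := by
        rwa [IsOpenImmersion.lift_fac]
      have h2 : IsPullback l (pullback.snd f₁ s) (f₁ ∣_ V) sV := by
        refine IsPullback.of_right h1 ?_ (isPullback_morphismRestrict f₁ V).flip
        rw [← cancel_mono V.ι, Category.assoc, morphismRestrict_ι, ← Category.assoc, IsOpenImmersion.lift_fac,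
          Category.assoc, IsOpenImmersion.lift_fac]
        exact pullback.condition
      exact hVirr.geometrically_irreducibleSpace _ _ _ h2
    haveI : Smooth (pullback.snd f₁ s) := inferInstance
    haveI : IsReduced F := SmoothRed.isReduced_of_smooth_scheme (pullback.snd f₁ s)
    haveI : IsIntegral F := isIntegral_of_irreducibleSpace_of_isReduced F
    haveI : IsSeparated f₁ := inferInstance
    -- dimension
    let sh : CommRingCat.of R ⟶ CommRingCat.of K := Spec.preimage s
    let L := Spec (CommRingCat.of (Polynomial K))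
    letI : Algebra R K := sh.hom.toAlgebra
    letI : Algebra B (Polynomial K) := Polynomial.algebra R K
    let e : L ⟶ Spec (CommRingCat.of B) := Spec.map (CommRingCat.ofHom (Polynomial.mapRingHom sh.hom))
    let prL : L ⟶ Spec (CommRingCat.of K) := Spec.map (CommRingCat.ofHom (Polynomial.C : K →+* Polynomial K))
    have hL : IsPullback e prL pr s := by
      have h := isPullback_SpecMap_of_isPushout _ _ _ _
        (CommRingCat.isPushout_of_isPushout R K B (Polynomial K)).flip
      rw [← Spec.map_preimage s]
      exact h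
    let u₁ : F ⟶ L := hL.lift (pullback.fst f₁ s ≫ sB) (pullback.snd f₁ s)
      ((Category.assoc _ _ _).trans (((congrArg (_ ≫ ·) (Category.assoc _ _ _)).trans pullback.condition)))
    haveI : Etale u₁ := by
      have h : IsPullback (pullback.fst f₁ s) u₁ sB e := by
        refine IsPullback.of_bot ?_ (hL.lift_fst _ _ _).symm hL
        rw [hL.lift_snd, show sB ≫ pr = f₁ from Category.assoc _ _ _]
        exact IsPullback.of_hasPullback f₁ s
      exact MorphismProperty.of_isPullback (P := @Etale) h inferInstance
    have hdim : topologicalKrullDim F = 1 := by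
      haveI : IsDominant u₁ := ⟨u₁.isOpenMap.isOpen_range.dense (Set.range_nonempty _)⟩
      have hη : u₁ (genericPoint F) = genericPoint L := by
        have h := (genericPoint_spec F).image u₁.continuous
        rw [Set.image_univ, u₁.denseRange.closure_range] at h
        exact h.eq (genericPoint_spec L)
      haveI := locallyQuasiFinite_of_etale_map u₁
      haveI : LocallyOfFiniteType prL := HasRingHomProperty.Spec_iff.2
        (RingHom.finiteType_algebraMap.2 (inferInstanceAs (Algebra.FiniteType K (Polynomial K))))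
      have h := GenDegree.pdim_eq_of_quasiFiniteAt u₁ (pullback.snd f₁ s) prL (hL.lift_snd _ _ _)
        (genericPoint F) (u₁.quasiFiniteAt _)
      rw [hη] at h
      rw [Rigid.topologicalKrullDim_eq_pdim (pullback.snd f₁ s), ← h, ← Rigid.topologicalKrullDim_eq_pdim prL]
      change topologicalKrullDim (PrimeSpectrum (Polynomial K)) = 1
      rw [PrimeSpectrum.topologicalKrullDim_eq_ringKrullDim, Polynomial.ringKrullDim_of_isNoetherianRing,
        ringKrullDim_eq_zero_of_field, zero_add]
    let D : Over (Spec (CommRingCat.of K)) := Over.mk (pullback.snd f₁ s)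
    let d₀ : AVDeg.one' K ⟶ D := Over.homMk (pullback.lift (s ≫ σ₁) (𝟙 _)
      (by rw [Category.assoc, hσf₁, Category.comp_id, Category.id_comp])) (pullback.lift_snd _ _ _)
    let d₁ : AVDeg.one' K ⟶ D := Over.homMk (pullback.lift p.left (𝟙 _) (Category.id_comp _).symm)
      (pullback.lift_snd _ _ _)
    let r : D ⟶ U := Over.homMk (pullback.fst f₁ s ≫ q ≫ W.ι) (by
      change (pullback.fst f₁ s ≫ q ≫ W.ι) ≫ U.hom = pullback.snd f₁ s
      rw [Category.assoc, Category.assoc, ← hGs, show q ≫ G ≫ strA K (m + 1) = f₁ ≫ str by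
        rw [Category.assoc, pullback.condition_assoc, hψs]
        simp [f₁, f], ← Category.assoc, pullback.condition, Category.assoc, hps]
      exact Category.comp_id _)
    refine Or.inr ⟨D, ‹IsIntegral F›, r, d₀, d₁, ‹_›, inferInstanceAs (IsSeparated (pullback.snd f₁ s)),
      inferInstanceAs (QuasiCompact (pullback.snd f₁ s)), hdim, ?_, point_ext ?_⟩
    · apply Over.OverMorphism.ext
      change pullback.lift (s ≫ σ₁) (𝟙 _) _ ≫ pullback.fst f₁ s ≫ q ≫ W.ι = a.left
      have e : σ₁ ≫ q = str ≫ aW := by rw [← Category.assoc, hσ₁, pullback.lift_fst]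
      rw [pullback.lift_fst_assoc, Category.assoc, reassoc_of% e, ← Category.assoc s str, show s ≫ str = 𝟙 _ from hps,
        Category.id_comp, haW]
    · change (pullback.lift p.left (𝟙 _) _ ≫ pullback.fst f₁ s ≫ q ≫ W.ι) (IsLocalRing.closedPoint K) = _
      rw [pullback.lift_fst_assoc, Scheme.Hom.comp_apply, Scheme.Hom.comp_apply]
      erw [hp, show q y = w from hy.1]
      exact hwb

/-- **Chains of two curves.** -/
theorem exists_chain (U : Over (Spec (CommRingCat.of K))) [IsIntegral U.left] [Smooth U.hom]
    [IsSeparated U.hom] [QuasiCompact U.hom] (a b : AVDeg.one' K ⟶ U) :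
    ∃ c, Linked U a c ∧ Linked U b c := by
  obtain ⟨O, hO, hOa⟩ := exists_linked_open U a
  obtain ⟨O', hO', hOb⟩ := exists_linked_open U b
  haveI : JacobsonSpace U.left := LocallyOfFiniteType.jacobsonSpace U.hom
  obtain ⟨x, hx, hxcl⟩ := nonempty_inter_closedPoints (Z := (O : Set U.left) ∩ O')
    (nonempty_preirreducible_inter O.2 O'.2 hO hO') (O.2.inter O'.2).isLocallyClosed
  obtain ⟨c, hc⟩ := exists_point hxcl
  exact ⟨c, hOa c (hc ▸ hx.1), hOb c (hc ▸ hx.2)⟩

end Groth.Agent.AVRat
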