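import Groth.Agent.SerreReg.Regular
import Groth.Agent.Goren.LCI
import Groth.Agent.SerrePn.Equidim
import Groth.Agent.Rigid.DimDrop
import Groth.Agent.GeomProp.SmoothPoint
import Groth.Agent.SmLocalST.SmoothField
import Groth.Agent.UFDLib.Regular
import Mathlib.RingTheory.UniqueFactorizationDomain.Finite

/-!
Smooth curves through a closed point of a smooth variety, not contained in a given hypersurface.
-/

set_option autoImplicit false
set_option backward.isDefEq.respectTransparency false
set_option backward.isDefEq.respectTransparency.types false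
set_option linter.style.haveILetI false
set_option linter.unusedSectionVars false
set_option maxHeartbeats 1000000

universe u

open CategoryTheory CategoryTheory.Limits AlgebraicGeometry IsLocalRing

noncomputable section

namespace Groth.Agent.AVRat

/-- coefficients of a relation modulo the square along minimal generators lie in the maximal ideal -/
theorem coeff_mem {R : Type u} [DecidableEq R] [CommRing R] [IsLocalRing R] [IsNoetherianRing R] {s : Finset R}
    (hcard : s.card = (maximalIdeal R).spanFinrank) (hspan : Ideal.span (↑s : Set R) = maximalIdeal R) {y : R}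
    (hy : y ∈ s) {c z : R} (hz : z ∈ Ideal.span (↑(s.erase y) : Set R)) (h : c * y + z ∈ maximalIdeal R ^ 2) :
    c ∈ maximalIdeal R := by
  classical
  by_contra hc
  rw [IsLocalRing.mem_maximalIdeal, mem_nonunits_iff, not_not] at hc
  obtain ⟨c, rfl⟩ := hc
  have hy' : y ∈ Ideal.span (↑(s.erase y) : Set R) ⊔ maximalIdeal R ^ 2 := by
    have e : y = (↑c⁻¹ : R) * (↑c * y + z) - ↑c⁻¹ * z := by
      rw [mul_add, ← mul_assoc, Units.inv_mul, one_mul]; ring
    have hh := sub_mem (Submodule.mem_sup_right (S := Ideal.span (↑(s.erase y) : Set R)) (Ideal.mul_mem_left _ (↑c⁻¹ : R) h))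
      (Submodule.mem_sup_left (T := maximalIdeal R ^ 2) (Ideal.mul_mem_left _ (↑c⁻¹ : R) hz))
    rwa [← e] at hh
  have hle : maximalIdeal R ≤ Ideal.span (↑(s.erase y) : Set R) ⊔ maximalIdeal R ^ 2 := by
    conv_lhs => rw [← hspan]
    refine Ideal.span_le.2 fun w hw => ?_
    by_cases hwy : w = y
    · exact hwy ▸ hy'
    · exact Submodule.mem_sup_left (Ideal.subset_span (Finset.mem_erase.2 ⟨hwy, hw⟩))
  rw [pow_two, ← Ideal.smul_eq_mul] at hle
  have hle' := Submodule.le_of_le_smul_of_le_jacobson_bot (IsNoetherian.noetherian (maximalIdeal R))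
    (IsLocalRing.jacobson_eq_maximalIdeal _ bot_ne_top).ge hle
  have heq : maximalIdeal R = Ideal.span (↑(s.erase y) : Set R) :=
    le_antisymm hle' (Ideal.span_le.2 fun w hw => hspan ▸ Ideal.subset_span (Finset.mem_of_mem_erase hw))
  have h3 : (maximalIdeal R).spanFinrank ≤ (s.erase y).card := by
    rw [heq]
    exact (Submodule.spanFinrank_span_le_ncard_of_finite (Finset.finite_toSet _)).trans
      (Set.ncard_coe_finset _).le
  rw [Finset.card_erase_of_mem hy, ← hcard] at h3
  have := Finset.card_pos.2 ⟨y, hy⟩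
  omega

/-- a parameter not dividing a given element -/
theorem exists_param_not_dvd (R : Type u) [CommRing R] [IsRegularLocalRing R] [Infinite (ResidueField R)]
    (hd : 2 ≤ ringKrullDim R) {g : R} (hg : g ≠ 0) :
    ∃ x, x ∈ maximalIdeal R ∧ x ∉ maximalIdeal R ^ 2 ∧ ¬ x ∣ g := by
  classical
  haveI := Groth.Agent.RegLoc.isDomain R
  haveI := UFDLib.ufd_of_isRegularLocalRing R
  obtain ⟨s, hcard, hspan⟩ := Submodule.FG.exists_span_finset_card_eq_spanFinrank
    (IsNoetherian.noetherian (maximalIdeal R))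
  have h2 : 2 ≤ s.card := by
    rw [← IsRegularLocalRing.spanFinrank_maximalIdeal (R := R)] at hd
    rw [hcard]
    exact_mod_cast hd
  obtain ⟨x₁, hx₁, x₂, hx₂, hne⟩ := Finset.one_lt_card.1 h2
  have hmem : ∀ {y}, y ∈ s → y ∈ maximalIdeal R := fun hy => hspan ▸ Ideal.subset_span hy
  have hk₁ : ∀ a b : R, a * x₁ + b * x₂ ∈ maximalIdeal R ^ 2 → a ∈ maximalIdeal R := fun a b h =>
    coeff_mem hcard hspan hx₁ (Ideal.mul_mem_left _ _ (Ideal.subset_span (Finset.mem_erase.2 ⟨hne.symm, hx₂⟩))) h
  have hk₂ : ∀ a b : R, a * x₁ + b * x₂ ∈ maximalIdeal R ^ 2 → b ∈ maximalIdeal R := fun a b h =>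
    coeff_mem hcard hspan hx₂ (Ideal.mul_mem_left _ _ (Ideal.subset_span (Finset.mem_erase.2 ⟨hne, hx₁⟩)))
      (by rwa [add_comm] at h)
  by_contra hall
  push Not at hall
  let σ : ResidueField R → R := fun a => (Ideal.Quotient.mk_surjective a).choose
  have hσ : ∀ a, IsLocalRing.residue R (σ a) = a := fun a => (Ideal.Quotient.mk_surjective a).choose_spec
  let f : ResidueField R → R := fun a => x₁ + σ a * x₂
  have hf2 : ∀ a, f a ∉ maximalIdeal R ^ 2 := fun a h =>
    (maximalIdeal.isMaximal R).ne_top ((Ideal.eq_top_iff_one _).2 (hk₁ 1 (σ a) (by rwa [one_mul])))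
  have hf1 : ∀ a, f a ∈ maximalIdeal R := fun a => add_mem (hmem hx₁) (Ideal.mul_mem_left _ _ (hmem hx₂))
  letI := UniqueFactorizationMonoid.fintypeSubtypeDvd (Associates.mk g) (Associates.mk_ne_zero.2 hg)
  let Φ : ResidueField R → {d : Associates R // d ∣ Associates.mk g} :=
    fun a => ⟨Associates.mk (f a), Associates.mk_dvd_mk.2 (hall _ (hf1 a) (hf2 a))⟩
  haveI : Finite {d : Associates R // d ∣ Associates.mk g} := Finite.of_fintype _
  obtain ⟨a, b, hab, hΦ⟩ := Finite.exists_ne_map_eq_of_infinite Φ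
  obtain ⟨w, hw⟩ := Associates.mk_eq_mk_iff_associated.1 (congrArg Subtype.val hΦ)
  have h0 : ((w : R) - 1) * x₁ + ((w : R) * σ a - σ b) * x₂ ∈ maximalIdeal R ^ 2 := by
    have e : ((w : R) - 1) * x₁ + ((w : R) * σ a - σ b) * x₂ = 0 := by
      simp only [f] at hw
      linear_combination hw
    exact e ▸ zero_mem _
  have e1 : IsLocalRing.residue R ((w : R) * σ a) = IsLocalRing.residue R (σ b) :=
    (Ideal.Quotient.eq (I := maximalIdeal R)).2 (hk₂ _ _ h0)
  have e2 : IsLocalRing.residue R (w : R) = IsLocalRing.residue R 1 :=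
    (Ideal.Quotient.eq (I := maximalIdeal R)).2 (hk₁ _ _ h0)
  rw [map_mul, hσ, hσ, e2, map_one, one_mul] at e1
  exact hab e1

/-- a regular one-dimensional quotient avoiding a given element -/
theorem exists_regular_quotient : ∀ (n : ℕ) (R : Type u) [CommRing R] [IsRegularLocalRing R]
    [Infinite (ResidueField R)] (_ : ringKrullDim R = (n + 1 : ℕ)) (g : R) (_ : g ≠ 0),
    ∃ P : Ideal R, P.IsPrime ∧ g ∉ P ∧ IsRegularLocalRing (R ⧸ P) ∧ ringKrullDim (R ⧸ P) = 1 := by
  intro n
  induction n with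
  | zero =>
    intro R _ _ _ hd g hg
    haveI := Groth.Agent.RegLoc.isDomain R
    refine ⟨⊥, Ideal.isPrime_bot, by simpa using hg, IsRegularLocalRing.of_ringEquiv (RingEquiv.quotientBot R).symm, ?_⟩
    rw [ringKrullDim_eq_of_ringEquiv (RingEquiv.quotientBot R), hd]
    norm_num
  | succ n ih =>
    intro R _ _ _ hd g hg
    obtain ⟨x, hx, hx2, hxg⟩ := exists_param_not_dvd R (by rw [hd]; exact_mod_cast (by omega : 2 ≤ n + 1 + 1)) hg
    obtain ⟨hreg, hsmul⟩ := SerreReg.isRegularLocalRing_quot hx hx2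
    haveI := hreg
    let π := Ideal.Quotient.mk (Ideal.span {x})
    haveI : IsLocalHom π := .of_surjective _ Ideal.Quotient.mk_surjective
    haveI : Infinite (ResidueField (R ⧸ Ideal.span {x})) :=
      Infinite.of_injective _ (IsLocalRing.ResidueField.map π).injective
    have h1 := ringKrullDim_quotient_span_singleton_succ_eq_ringKrullDim hsmul hx
    obtain ⟨d, hd'⟩ := SerreReg.exists_dim (R ⧸ Ideal.span {x})
    have hdn : d = n + 1 := by
      rw [hd', hd] at h1
      have h3 : d + 1 = n + 1 + 1 := by exact_mod_cast h1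
      omega
    have hπg : π g ≠ 0 := fun h => hxg (Ideal.mem_span_singleton.1 (Ideal.Quotient.eq_zero_iff_mem.1 h))
    obtain ⟨P', hP', hgP, hregP, hdimP⟩ := ih (R ⧸ Ideal.span {x}) (hd'.trans (by rw [hdn])) (π g) hπg
    haveI := hP'
    let P := P'.comap π
    have hle : Ideal.span {x} ≤ P := fun y hy => by
      rw [Ideal.mem_comap, show π y = 0 from Ideal.Quotient.eq_zero_iff_mem.2 hy]
      exact zero_mem _
    have hmap : P.map π = P' := Ideal.map_comap_of_surjective π Ideal.Quotient.mk_surjective P'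
    let e : (R ⧸ Ideal.span {x}) ⧸ P' ≃+* R ⧸ P :=
      (Ideal.quotEquivOfEq hmap.symm).trans (DoubleQuot.quotQuotEquivQuotOfLE hle)
    refine ⟨P, Ideal.comap_isPrime π P', hgP, IsRegularLocalRing.of_ringEquiv e, ?_⟩
    rw [← hdimP, ringKrullDim_eq_of_ringEquiv e]

theorem stalkEquiv (B : CommRingCat.{u}) (x : PrimeSpectrum B) :
    Nonempty ((Spec B).presheaf.stalk x ≃+* Localization.AtPrime x.asIdeal) := by
  haveI : IsLocalization.AtPrime ((Spec.structureSheaf B).presheaf.stalk x) x.asIdeal := inferInstance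
  exact ⟨(IsLocalization.algEquiv x.asIdeal.primeCompl ((Spec.structureSheaf B).presheaf.stalk x)
    (Localization.AtPrime x.asIdeal)).toRingEquiv⟩

variable {K : Type u} [Field K] [IsAlgClosed K]

/-- the residue field at a closed point is infinite -/
theorem infinite_residueField {V : Scheme.{u}} (q : V ⟶ Spec (CommRingCat.of K)) (v : V) :
    Infinite (ResidueField (V.presheaf.stalk v)) :=
  Infinite.of_injective
    ((Spec.preimage (V.fromSpecResidueField v ≫ q)).hom : K → V.residueField v)
    (Spec.preimage (V.fromSpecResidueField v ≫ q)).hom.injective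

set_option maxHeartbeats 4000000 in
/-- **a smooth curve through a closed point outside a hypersurface** -/
theorem exists_curve_through {V : Scheme.{u}} [IsIntegral V] (q : V ⟶ Spec (CommRingCat.of K)) [Smooth q]
    [IsSeparated q] {v : V} (hv : IsClosed ({v} : Set V)) {U : V.Opens} (hU : IsAffineOpen U) (hvU : v ∈ U)
    {a : Γ(V, U)} (ha : a ≠ 0) (hav : v ∉ V.basicOpen a) :
    ∃ (D : Scheme.{u}) (_ : IsIntegral D) (ι : D ⟶ V), Smooth (ι ≫ q) ∧ IsSeparated (ι ≫ q) ∧
      QuasiCompact (ι ≫ q) ∧ topologicalKrullDim D = 1 ∧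
        ∃ d : D, ι d = v ∧ ι (genericPoint D) ∈ V.basicOpen a := by
  haveI : IsLocallyNoetherian V := LocallyOfFiniteType.isLocallyNoetherian q
  haveI hreg := SmLocalST.isRegularLocalRing_stalk_of_smooth_field q v
  let A := Γ(V, U)
  haveI : IsNoetherianRing A := IsLocallyNoetherian.component_noetherian ⟨U, hU⟩
  let m := (hU.primeIdealOf ⟨v, hvU⟩).asIdeal
  letI : Algebra A (V.presheaf.stalk v) := (V.presheaf.germ U v hvU).hom.toAlgebra
  haveI : IsLocalization.AtPrime (V.presheaf.stalk v) m := hU.isLocalization_stalk ⟨v, hvU⟩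
  let R := V.presheaf.stalk v
  haveI : Infinite (ResidueField R) := infinite_residueField q v
  have hga : algebraMap A R a ≠ 0 := fun h =>
    ha (germ_injective_of_isIntegral V v hvU (h.trans (map_zero _).symm))
  have hgm : algebraMap A R a ∈ maximalIdeal R := fun h => hav ((V.mem_basicOpen a v hvU).2 h)
  obtain ⟨n, hn⟩ := SerreReg.exists_dim R
  have hn0 : n ≠ 0 := fun h => by
    subst h
    haveI := Groth.Agent.RegLoc.isDomain R
    have hb : (⊥ : Ideal R) = maximalIdeal R := by
      by_contra hne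
      have h1 : (⊥ : Ideal R) < maximalIdeal R := lt_of_le_of_ne bot_le hne
      have h2 : (1 : WithBot ℕ∞) ≤ ringKrullDim R :=
        Order.one_le_krullDim_iff.2 ⟨⟨⊥, Ideal.isPrime_bot⟩, closedPoint R, h1⟩
      rw [hn] at h2
      exact absurd h2 (by decide)
    rw [← hb] at hgm
    exact hga hgm
  obtain ⟨n, rfl⟩ := Nat.exists_eq_succ_of_ne_zero hn0
  obtain ⟨P, hP, hgP, hregP, hdimP⟩ := exists_regular_quotient n R hn _ hga
  haveI := hP
  let p := P.comap (algebraMap A R)
  haveI : p.IsPrime := Ideal.comap_isPrime _ P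
  have hpm : p ≤ m := fun y hy => by
    by_contra hym
    exact hP.ne_top (P.eq_top_of_isUnit_mem hy (IsLocalization.map_units R (⟨y, hym⟩ : m.primeCompl)))
  let B := CommRingCat.of (A ⧸ p)
  let j : Spec B ⟶ Spec A := Spec.map (CommRingCat.ofHom (Ideal.Quotient.mk p))
  haveI : IsClosedImmersion j := IsClosedImmersion.spec_of_surjective _ Ideal.Quotient.mk_surjective
  let ι₀ : Spec B ⟶ V := j ≫ hU.fromSpec
  have hker : RingHom.ker (Ideal.Quotient.mk p) ≤ m := Ideal.mk_ker.le.trans hpm
  let m' : Ideal (A ⧸ p) := m.map (Ideal.Quotient.mk p)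
  haveI hm' : m'.IsPrime := Ideal.map_isPrime_of_surjective Ideal.Quotient.mk_surjective hker
  have hcomap : m'.comap (Ideal.Quotient.mk p) = m := by
    rw [Ideal.comap_map_of_surjective _ Ideal.Quotient.mk_surjective]
    exact sup_eq_left.2 ((RingHom.ker_eq_comap_bot _).symm.le.trans hker)
  let d₀ : Spec B := ⟨m', hm'⟩
  have hd₀ : ι₀ d₀ = v := by
    change hU.fromSpec (j d₀) = v
    rw [show j d₀ = hU.primeIdealOf ⟨v, hvU⟩ from PrimeSpectrum.ext hcomap, hU.fromSpec_primeIdealOf]
  -- the local ring at the point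
  obtain ⟨e⟩ := Goren.quot_localization A p m'
  haveI hloc : IsLocalization (m'.comap (Ideal.Quotient.mk p)).primeCompl (V.presheaf.stalk v) := by
    rw [show (m'.comap (Ideal.Quotient.mk p)).primeCompl = m.primeCompl from Submonoid.ext fun y => by
      simp only [Ideal.mem_primeCompl_iff, hcomap]]
    infer_instance
  let e₁ := (IsLocalization.algEquiv (m'.comap (Ideal.Quotient.mk p)).primeCompl
    (Localization.AtPrime (m'.comap (Ideal.Quotient.mk p))) R).toRingEquiv
  have hPm : p.map (algebraMap A R) = P := IsLocalization.map_comap m.primeCompl R P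
  let e₂ : Localization.AtPrime m' ≃+* R ⧸ P := e.symm.trans (Ideal.quotientEquiv _ _ e₁ (by
    rw [Ideal.map_map, ← hPm]
    congr 1
    exact (RingHom.ext fun x => (IsLocalization.algEquiv (m'.comap (Ideal.Quotient.mk p)).primeCompl
      (Localization.AtPrime (m'.comap (Ideal.Quotient.mk p))) R).commutes x).symm))
  obtain ⟨e₀⟩ := stalkEquiv B d₀
  let e₃ : (Spec B).presheaf.stalk d₀ ≃+* R ⧸ P := e₀.trans e₂
  haveI : IsRegularLocalRing ((Spec B).presheaf.stalk d₀) := IsRegularLocalRing.of_ringEquiv e₃.symm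
  haveI : IsDomain (A ⧸ p) := Ideal.Quotient.isDomain p
  haveI : IsIntegral (Spec B) := inferInstance
  let s₀ := ι₀ ≫ q
  haveI : LocallyOfFinitePresentation s₀ :=
    (LocallyOfFinitePresentation.iff_locallyOfFiniteType (f := s₀)).2 inferInstance
  let O := s₀.smoothLocus
  have hdO : d₀ ∈ O := GeomProp.mem_smoothLocus_of_regular_perfect s₀ inferInstance
  haveI : Nonempty O := ⟨⟨d₀, hdO⟩⟩
  haveI : IsIntegral O.toScheme := isIntegral_of_isOpenImmersion O.ι
  haveI hsm : Smooth (O.ι ≫ s₀) := by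
    rw [← Scheme.Hom.smoothLocus_eq_top_iff, ← Scheme.Hom.preimage_smoothLocus_eq]
    exact Scheme.Opens.ι_preimage_self O
  haveI : IsLocallyNoetherian (Spec B) := LocallyOfFiniteType.isLocallyNoetherian s₀
  haveI : IsNoetherian (Spec B) := ⟨⟩
  let d : O.toScheme := ⟨d₀, hdO⟩
  have hdcl : IsClosed ({d} : Set O.toScheme) := by
    have h1 : IsClosed (ι₀ ⁻¹' {v}) := hv.preimage ι₀.continuous
    have h2 : ι₀ ⁻¹' {v} = {d₀} := Set.eq_singleton_iff_unique_mem.2 ⟨hd₀, fun y hy =>
      j.isClosedEmbedding.injective (hU.fromSpec.isOpenEmbedding.injective (hy.trans hd₀.symm))⟩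
    have h3 : ({d} : Set O.toScheme) = O.ι ⁻¹' {d₀} := by
      ext y
      exact ⟨fun h => by rw [h]; rfl, fun h => Subtype.ext h⟩
    rw [h3, ← h2]
    exact h1.preimage O.ι.continuous
  have hdim : topologicalKrullDim O.toScheme = 1 := by
    have h1 := Rigid.topologicalKrullDim_eq_pdim (O.ι ≫ s₀)
    generalize WeilCoh.pdim O.toScheme (genericPoint O.toScheme) = N at h1
    have h2 := SerrePn.ringKrullDim_stalk_of_equidim (O.ι ≫ s₀) N (by exact_mod_cast h1) (fun Z hZ => by
      rw [irreducibleComponents_eq_singleton, Set.mem_singleton_iff] at hZ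
      subst hZ
      rw [(Homeomorph.Set.univ O.toScheme).isHomeomorph.topologicalKrullDim_eq]
      exact_mod_cast h1) d hdcl
    rw [ringKrullDim_eq_of_ringEquiv ((asIso (O.ι.stalkMap d)).commRingCatIsoToRingEquiv.symm.trans e₃), hdimP] at h2
    rw [h1]
    exact_mod_cast h2.symm
  refine ⟨O.toScheme, inferInstance, O.ι ≫ ι₀, ?_, ?_, ?_, hdim, d, hd₀, ?_⟩
  · rw [Category.assoc]; exact hsm
  · rw [Category.assoc]; infer_instance
  · rw [Category.assoc]; infer_instance
  · -- the generic point avoids the hypersurface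
    change ι₀ (O.ι (genericPoint O.toScheme)) ∈ V.basicOpen a
    rw [show O.ι (genericPoint O.toScheme) = genericPoint (Spec B) from genericPoint_eq_of_isOpenImmersion O.ι]
    change j (genericPoint (Spec B)) ∈ hU.fromSpec ⁻¹ᵁ V.basicOpen a
    rw [hU.fromSpec_preimage_basicOpen, genericPoint_eq_bot_of_affine]
    change a ∉ (Ideal.comap (Ideal.Quotient.mk p) ⊥ : Ideal A)
    rw [← RingHom.ker_eq_comap_bot, Ideal.mk_ker]
    exact hgP

end Groth.Agent.AVRat
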