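import Groth.Agent.AVRat.Core
import Groth.Agent.AgBC.PoincareBC
import Groth.Agent.AVQuot.Basic

/-!
The same over any field, and the decomposition of a map from a product into an abelian variety.
-/

set_option autoImplicit false
set_option backward.isDefEq.respectTransparency false
set_option backward.isDefEq.respectTransparency.types false
set_option linter.style.haveILetI false
set_option linter.unusedSectionVars false
set_option maxHeartbeats 2000000
set_option synthInstance.maxHeartbeats 200000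

universe u

open CategoryTheory MonoidalCategory CartesianMonoidalCategory MonObj GrpObj AlgebraicGeometry
open Groth.Agent.AgBC (dn dnHom toDn toDn_left toDn_one toDn_comp xtPr lift_xtPr prD)

noncomputable section

namespace Groth.Agent.AVRat

variable {K : Type u} [Field K]

variable (K) in
/-- the algebraic closure as a point -/
abbrev geomPt : Spec (CommRingCat.of (AlgebraicClosure K)) ⟶ Spec (CommRingCat.of K) :=
  Spec.map (CommRingCat.ofHom (algebraMap K (AlgebraicClosure K)))

/-- a geometric point of a variety -/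
theorem exists_geomPoint (X : Over (Spec (CommRingCat.of K))) [LocallyOfFiniteType X.hom] [Nonempty X.left] :
    Nonempty (Over.mk (geomPt K) ⟶ X) := by
  let π := Limits.pullback.fst X.hom (geomPt K)
  haveI : Surjective (geomPt K) :=
    ⟨fun _ => ⟨IsLocalRing.closedPoint _, Subsingleton.elim (α := PrimeSpectrum K) _ _⟩⟩
  haveI : Surjective π := inferInstanceAs (Surjective (Limits.pullback.fst X.hom (geomPt K)))
  haveI : JacobsonSpace ↥(Limits.pullback X.hom (geomPt K)) :=
    LocallyOfFiniteType.jacobsonSpace (Limits.pullback.snd X.hom (geomPt K))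
  obtain ⟨x⟩ := ‹Nonempty X.left›
  obtain ⟨x', -⟩ := π.surjective x
  obtain ⟨z, -, hz⟩ := nonempty_inter_closedPoints (Z := Set.univ) ⟨x', trivial⟩ isOpen_univ.isLocallyClosed
  let P := pointOfClosedPoint (Limits.pullback.snd X.hom (geomPt K)) z hz
  refine ⟨Over.homMk (P ≫ π) ?_⟩
  change (P ≫ π) ≫ X.hom = geomPt K
  rw [Category.assoc, Limits.pullback.condition, ← Category.assoc, pointOfClosedPoint_comp, Category.id_comp]

set_option maxHeartbeats 4000000 in
/-- **a map trivial on the axes is trivial**, over any field; the point of the second factor may be geometric -/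
theorem eq_one_of_axes' (V Z A : Over (Spec (CommRingCat.of K))) [Smooth V.hom] [IsSeparated V.hom]
    [QuasiCompact V.hom] [GeometricallyIntegral V.hom] [Smooth Z.hom] [IsSeparated Z.hom] [QuasiCompact Z.hom]
    [GeometricallyIntegral Z.hom] [GrpObj A] [IsProper A.hom] [GeometricallyIntegral A.hom]
    (v₀ : 𝟙_ (Over (Spec (CommRingCat.of K))) ⟶ V) (z₀ : Over.mk (geomPt K) ⟶ Z) (F : V ⊗ Z ⟶ A)
    (h₁ : lift (toUnit Z ≫ v₀) (𝟙 Z) ≫ F = 1)
    (h₂ : lift (fst V (Over.mk (geomPt K))) (snd V (Over.mk (geomPt K)) ≫ z₀) ≫ F = 1) : F = 1 := by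
  let τ := geomPt K
  haveI : Surjective τ := ⟨fun _ => ⟨IsLocalRing.closedPoint _, Subsingleton.elim (α := PrimeSpectrum K) _ _⟩⟩
  let V' := Red.bc τ V
  let Z' := Red.bc τ Z
  let A' := Red.bc τ A
  haveI : Smooth V'.hom := inferInstanceAs (Smooth (Limits.pullback.snd V.hom τ))
  haveI : IsSeparated V'.hom := inferInstanceAs (IsSeparated (Limits.pullback.snd V.hom τ))
  haveI : QuasiCompact V'.hom := inferInstanceAs (QuasiCompact (Limits.pullback.snd V.hom τ))
  haveI : GeometricallyIntegral V'.hom := inferInstanceAs (GeometricallyIntegral (Limits.pullback.snd V.hom τ))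
  haveI : Smooth Z'.hom := inferInstanceAs (Smooth (Limits.pullback.snd Z.hom τ))
  haveI : IsSeparated Z'.hom := inferInstanceAs (IsSeparated (Limits.pullback.snd Z.hom τ))
  haveI : QuasiCompact Z'.hom := inferInstanceAs (QuasiCompact (Limits.pullback.snd Z.hom τ))
  haveI : GeometricallyIntegral Z'.hom := inferInstanceAs (GeometricallyIntegral (Limits.pullback.snd Z.hom τ))
  haveI : IsProper A'.hom := inferInstanceAs (IsProper (Limits.pullback.snd A.hom τ))
  haveI : GeometricallyIntegral A'.hom := inferInstanceAs (GeometricallyIntegral (Limits.pullback.snd A.hom τ))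
  let m : dn τ (V' ⊗ Z') ⟶ V ⊗ Z := lift (toDn τ (fst V' Z')) (toDn τ (snd V' Z'))
  let F' : V' ⊗ Z' ⟶ A' := (Over.mapPullbackAdj τ).homEquiv (V' ⊗ Z') A (m ≫ F)
  have hF' : toDn τ F' = m ≫ F := Equiv.symm_apply_apply _ _
  let v' : AVDeg.one' (AlgebraicClosure K) ⟶ V' :=
    (Over.mapPullbackAdj τ).homEquiv (AVDeg.one' (AlgebraicClosure K)) V (toUnit _ ≫ v₀)
  have hv' : toDn τ v' = toUnit _ ≫ v₀ := Equiv.symm_apply_apply _ _
  let i : dn τ (AVDeg.one' (AlgebraicClosure K)) ⟶ Over.mk τ := Over.homMk (𝟙 _) rfl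
  let z' : AVDeg.one' (AlgebraicClosure K) ⟶ Z' :=
    (Over.mapPullbackAdj τ).homEquiv (AVDeg.one' (AlgebraicClosure K)) Z (i ≫ z₀)
  have hz' : toDn τ z' = i ≫ z₀ := Equiv.symm_apply_apply _ _
  have hax : ∀ {U : Over (Spec (CommRingCat.of (AlgebraicClosure K)))} (a : U ⟶ V') (b : U ⟶ Z'),
      toDn τ (lift a b ≫ F') = lift (toDn τ a) (toDn τ b) ≫ F := fun a b => by
    rw [toDn_comp, hF', ← Category.assoc]
    refine congrArg (· ≫ F) ?_
    apply CartesianMonoidalCategory.hom_ext
    · simp only [m, Category.assoc, lift_fst]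
      rw [← toDn_comp, lift_fst]
    · simp only [m, Category.assoc, lift_snd]
      rw [← toDn_comp, lift_snd]
  have hinj : ∀ {U : Over (Spec (CommRingCat.of (AlgebraicClosure K)))} (a b : U ⟶ A'),
      toDn τ a = toDn τ b → a = b := fun a b h => ((Over.mapPullbackAdj τ).homEquiv _ A).symm.injective h
  have hFone : F' = 1 := by
    refine eq_one_of_axes V' Z' A' v' z' F' (hinj _ _ ?_) (hinj _ _ ?_)
    · rw [hax, toDn_one, toDn_comp, hv']
      have e := congrArg (toDn τ (𝟙 Z') ≫ ·) h₁
      simp only [MonObj.comp_one] at e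
      rw [← e, ← Category.assoc (toDn τ (𝟙 Z'))]
      refine congrArg (· ≫ F) ?_
      apply CartesianMonoidalCategory.hom_ext
      · rw [Category.assoc, lift_fst, lift_fst, ← Category.assoc (toDn τ (𝟙 Z')),
          ← Category.assoc (dnHom τ (toUnit Z'))]
        exact congrArg (· ≫ v₀) (toUnit_unique _ _)
      · rw [Category.assoc, lift_snd, lift_snd, Category.comp_id]
    · rw [hax, toDn_one, toDn_comp, hz']
      have e := congrArg (lift (toDn τ (𝟙 V')) (dnHom τ (toUnit V') ≫ i) ≫ ·) h₂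
      simp only [MonObj.comp_one] at e
      rw [← e, ← Category.assoc (lift (toDn τ (𝟙 V')) (dnHom τ (toUnit V') ≫ i))]
      refine congrArg (· ≫ F) ?_
      apply CartesianMonoidalCategory.hom_ext
      · rw [Category.assoc, lift_fst, lift_fst]
        exact (lift_fst _ _).symm
      · rw [Category.assoc, lift_snd, lift_snd, ← Category.assoc (lift _ _)]
        exact congrArg (· ≫ z₀) (lift_snd _ _).symm
  have hm : m.left = xtPr τ V Z := by
    rw [← lift_xtPr, lift_fst_snd, Over.id_left, Category.id_comp]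
  have hmF : m ≫ F = 1 := by rw [← hF', hFone, toDn_one]
  haveI : Epi m.left := by
    rw [hm]
    haveI : Flat τ := inferInstance
    let π : (V ⊗ dn τ Z').left ⟶ (V ⊗ Z).left := PicF.XTmap V.hom (prD τ Z)
    have hb : IsPullback π (Limits.pullback.snd V.hom (dn τ Z').hom) (Limits.pullback.snd V.hom Z.hom)
        (prD τ Z).left := PicFam.isPullback_XTmap V.hom (prD τ Z)
    haveI : Flat π := MorphismProperty.of_isPullback (P := @Flat) hb.flip
      (inferInstanceAs (Flat (Limits.pullback.fst Z.hom τ)))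
    haveI : Surjective π := MorphismProperty.of_isPullback (P := @Surjective) hb.flip
      (inferInstanceAs (Surjective (Limits.pullback.fst Z.hom τ)))
    haveI : QuasiCompact π := MorphismProperty.of_isPullback (P := @QuasiCompact) hb.flip
      (inferInstanceAs (QuasiCompact (Limits.pullback.fst Z.hom τ)))
    haveI : Epi π := Flat.epi_of_flat_of_surjective _
    exact epi_comp _ _
  apply Over.OverMorphism.ext
  rw [← cancel_epi m.left, ← Over.comp_left, ← Over.comp_left, hmF, MonObj.comp_one]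

/-- a map of groups preserving the unit into an abelian variety is a homomorphism -/
theorem isMonHom_of_unit (G A : Over (Spec (CommRingCat.of K))) [GrpObj G] [Smooth G.hom] [IsSeparated G.hom]
    [QuasiCompact G.hom] [GeometricallyIntegral G.hom] [GrpObj A] [IsProper A.hom] [GeometricallyIntegral A.hom]
    (f : G ⟶ A) (hf : η[G] ≫ f = η[A]) : IsMonHom f := by
  haveI : IsCommMonObj A := isCommMonObj_of_isProper_of_geometricallyIntegral A
  let F : G ⊗ G ⟶ A := (μ[G] ≫ f) * ((fst G G ≫ f) * (snd G G ≫ f))⁻¹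
  have he : ∀ (T : Over (Spec (CommRingCat.of K))), (toUnit T ≫ η[G]) ≫ f = (1 : T ⟶ A) := fun T => by
    rw [Category.assoc, hf, Hom.one_def]
  have hF : F = 1 := by
    refine eq_one_of_axes' G G A η[G] (toUnit _ ≫ η[G]) F ?_ ?_
    · have hm : lift (toUnit G ≫ η[G]) (𝟙 G) ≫ μ[G] = 𝟙 G := by
        rw [← Hom.mul_def, ← Hom.one_def, _root_.one_mul]
      simp only [F, MonObj.comp_mul, GrpObj.comp_inv, ← Category.assoc, hm, lift_fst, lift_snd, Category.id_comp]
      rw [he, _root_.one_mul, mul_inv_cancel]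
    · have hm : lift (fst G (Over.mk (geomPt K))) (snd G (Over.mk (geomPt K)) ≫ toUnit _ ≫ η[G]) ≫ μ[G] =
          fst G (Over.mk (geomPt K)) := by
        rw [← Hom.mul_def, ← Category.assoc, comp_toUnit, ← Hom.one_def, _root_.mul_one]
      simp only [F, MonObj.comp_mul, GrpObj.comp_inv, ← Category.assoc, lift_fst, lift_snd]
      rw [show lift (fst G (Over.mk (geomPt K))) ((snd G (Over.mk (geomPt K)) ≫ toUnit _) ≫ η[G]) ≫ μ[G] =
          fst G (Over.mk (geomPt K)) by rw [Category.assoc]; exact hm, comp_toUnit, he, _root_.mul_one,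
        mul_inv_cancel]
  refine { one_hom := hf, mul_hom := ?_ }
  have h := mul_inv_eq_one.1 hF
  rw [h, Hom.mul_def]
  refine congrArg (· ≫ μ[A]) ?_
  apply CartesianMonoidalCategory.hom_ext <;> simp

set_option maxHeartbeats 4000000 in
/-- **decomposition of a map from a product** -/
theorem exists_decomp (V W A : Over (Spec (CommRingCat.of K))) [Smooth V.hom] [IsSeparated V.hom]
    [QuasiCompact V.hom] [GeometricallyIntegral V.hom] [Smooth W.hom] [IsSeparated W.hom]
    [QuasiCompact W.hom] [GeometricallyIntegral W.hom] [GrpObj A] [IsProper A.hom] [GeometricallyIntegral A.hom]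
    (v₀ : 𝟙_ (Over (Spec (CommRingCat.of K))) ⟶ V) (f : V ⊗ W ⟶ A) :
    ∃ (f₁ : V ⟶ A) (f₂ : W ⟶ A), f = (fst V W ≫ f₁) * (snd V W ≫ f₂) := by
  haveI : IsCommMonObj A := isCommMonObj_of_isProper_of_geometricallyIntegral A
  let f₂ := lift (toUnit W ≫ v₀) (𝟙 W) ≫ f
  let D : V ⊗ W ⟶ A := f * (snd V W ≫ f₂)⁻¹
  let a₁ : V ⊗ (W ⊗ W) ⟶ V ⊗ W := V ◁ fst W W
  let a₂ : V ⊗ (W ⊗ W) ⟶ V ⊗ W := V ◁ snd W W
  let Φ : V ⊗ (W ⊗ W) ⟶ A := (a₁ ≫ D) * (a₂ ≫ D)⁻¹
  haveI : Smooth (W ⊗ W).hom := smooth_prod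
  haveI : IsSeparated (W ⊗ W).hom := separated_prod
  haveI : QuasiCompact (W ⊗ W).hom := quasiCompact_prod
  haveI : GeometricallyIntegral (W ⊗ W).hom := geometricallyIntegral_prod
  haveI : IsIntegral W.left := GeometricallyIntegral.isIntegral_of_subsingleton W.hom
  obtain ⟨w⟩ := exists_geomPoint W
  have hD : ∀ {T : Over (Spec (CommRingCat.of K))} (b : T ⟶ W), lift (toUnit T ≫ v₀) b ≫ D = 1 := fun {T} b => by
    have e : lift (toUnit T ≫ v₀) b ≫ f = b ≫ f₂ := by
      simp only [f₂, ← Category.assoc, comp_lift, Category.comp_id, comp_toUnit]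
    simp only [D, MonObj.comp_mul, GrpObj.comp_inv, ← Category.assoc, lift_snd, e, mul_inv_cancel]
  have hΦ : Φ = 1 := by
    refine eq_one_of_axes' V (W ⊗ W) A v₀ (lift w w) Φ ?_ ?_
    · simp only [Φ, a₁, a₂, MonObj.comp_mul, GrpObj.comp_inv, ← Category.assoc, lift_whiskerLeft, Category.id_comp,
        hD, inv_one, _root_.mul_one]
    · simp only [Φ, a₁, a₂, MonObj.comp_mul, GrpObj.comp_inv, ← Category.assoc, lift_whiskerLeft, comp_lift,
        lift_fst, lift_snd, mul_inv_cancel]
  haveI : Flat W.hom := inferInstance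
  haveI : Surjective W.hom := inferInstance
  haveI : LocallyOfFinitePresentation W.hom := by
    rw [LocallyOfFinitePresentation.iff_locallyOfFiniteType]; infer_instance
  haveI : Flat (fst V W).left := MorphismProperty.pullback_fst (P := @Flat) V.hom W.hom ‹_›
  haveI : Surjective (fst V W).left := MorphismProperty.pullback_fst (P := @Surjective) V.hom W.hom ‹_›
  haveI : LocallyOfFinitePresentation (fst V W).left :=
    MorphismProperty.pullback_fst (P := @LocallyOfFinitePresentation) V.hom W.hom ‹_›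
  obtain ⟨f₁, hf₁⟩ := AVQuot.exists_desc (fst V W) D fun {T} a b hab => by
    have e := congrArg (lift (a ≫ fst V W) (lift (a ≫ snd V W) (b ≫ snd V W)) ≫ ·) hΦ
    simp only [Φ, a₁, a₂, MonObj.comp_mul, GrpObj.comp_inv, MonObj.comp_one, ← Category.assoc, lift_whiskerLeft,
      lift_fst, lift_snd, mul_inv_eq_one] at e
    rw [show a = lift (a ≫ fst V W) (a ≫ snd V W) from (lift_comp_fst_snd a).symm,
      show b = lift (b ≫ fst V W) (b ≫ snd V W) from (lift_comp_fst_snd b).symm, ← hab]
    exact e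
  exact ⟨f₁, f₂, by rw [hf₁]; simp [D]⟩

/-- uniqueness of the decomposition -/
theorem decomp_unique (V W A : Over (Spec (CommRingCat.of K))) [Smooth V.hom] [Smooth W.hom] [QuasiCompact W.hom]
    [GeometricallyIntegral W.hom] [GrpObj A] [IsProper A.hom] [GeometricallyIntegral A.hom]
    (v₀ : 𝟙_ (Over (Spec (CommRingCat.of K))) ⟶ V) (f₁ f₁' : V ⟶ A) (f₂ f₂' : W ⟶ A)
    (h : (fst V W ≫ f₁) * (snd V W ≫ f₂) = (fst V W ≫ f₁') * (snd V W ≫ f₂')) :
    ∃ a : 𝟙_ (Over (Spec (CommRingCat.of K))) ⟶ A, f₁' = f₁ * (toUnit V ≫ a) ∧ f₂' * (toUnit W ≫ a) = f₂ := by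
  haveI : IsCommMonObj A := isCommMonObj_of_isProper_of_geometricallyIntegral A
  refine ⟨(v₀ ≫ f₁') * (v₀ ≫ f₁)⁻¹, ?_⟩
  have e := congrArg (lift (toUnit W ≫ v₀) (𝟙 W) ≫ ·) h
  simp only [MonObj.comp_mul, ← Category.assoc, lift_fst, lift_snd, Category.id_comp] at e
  have h2 : f₂' * (toUnit W ≫ ((v₀ ≫ f₁') * (v₀ ≫ f₁)⁻¹)) = f₂ := by
    simp only [MonObj.comp_mul, GrpObj.comp_inv, ← Category.assoc]
    apply Additive.ofMul.injective
    have e' := congrArg Additive.ofMul e
    simp only [ofMul_mul, ofMul_inv] at e' ⊢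
    rw [← sub_eq_zero] at e' ⊢
    rw [← neg_eq_zero] at e'
    rw [← e']
    abel
  refine ⟨?_, h2⟩
  haveI : Flat (fst V W).left := MorphismProperty.pullback_fst (P := @Flat) V.hom W.hom inferInstance
  haveI : Surjective (fst V W).left := MorphismProperty.pullback_fst (P := @Surjective) V.hom W.hom inferInstance
  haveI : QuasiCompact (fst V W).left := MorphismProperty.pullback_fst (P := @QuasiCompact) V.hom W.hom ‹_›
  haveI : Epi (fst V W).left := Flat.epi_of_flat_of_surjective _
  haveI : Epi (fst V W) := Over.epi_of_epi_left _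
  rw [← cancel_epi (fst V W), MonObj.comp_mul, ← Category.assoc, comp_toUnit]
  have h3 : snd V W ≫ f₂ = (snd V W ≫ f₂') * (toUnit (V ⊗ W) ≫ ((v₀ ≫ f₁') * (v₀ ≫ f₁)⁻¹)) := by
    rw [← h2, MonObj.comp_mul, ← Category.assoc, comp_toUnit]
  rw [h3] at h
  rw [← mul_right_cancel_iff (a := snd V W ≫ f₂'), ← h]
  apply Additive.ofMul.injective
  simp only [ofMul_mul]
  abel

end Groth.Agent.AVRat
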