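import Groth.Agent.AVRat.Rational
import Groth.Agent.S0352
import Groth.Agent.AlgSpLib.Reduced
import Groth.Agent.Rigid.FibreTranslate
import Groth.Agent.AVQuot.Basic
import Groth.Prelude.Def_Red

/-!
Families of affine spaces map constantly to extensions of abelian varieties by tori.
-/

set_option autoImplicit false
set_option backward.isDefEq.respectTransparency false
set_option backward.isDefEq.respectTransparency.types false
set_option linter.style.haveILetI false
set_option linter.unusedSectionVars false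
set_option maxHeartbeats 2000000
set_option synthInstance.maxHeartbeats 200000

universe u

open CategoryTheory CategoryTheory.Limits MonoidalCategory CartesianMonoidalCategory MonObj GrpObj AlgebraicGeometry
open Groth.Agent.AgBC (dn dnHom toDn toDn_one toDn_comp)

noncomputable section

namespace Groth.Agent.AVRat

variable {k L : Type u} [Field k] [Field L] {n : ℕ}

/-- the endomorphism collapsing affine space to the origin -/
def z0 (L : Type u) [Field L] (n : ℕ) : aff L (Fin n) ⟶ aff L (Fin n) := toUnit _ ≫ zeroPt L (Fin n)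

theorem z0_left : (z0 L n).left = (aff L (Fin n)).hom ≫ (zeroPt L (Fin n)).left := by
  rw [z0, Over.comp_left, Over.toUnit_left]

theorem z0_idem : z0 L n ≫ z0 L n = z0 L n := by
  rw [z0, Category.assoc, ← Category.assoc (zeroPt L (Fin n)), toUnit_unique (zeroPt L (Fin n) ≫ toUnit _) (𝟙 _),
    Category.id_comp]

/-- functions to a split torus are constant -/
theorem split_const {M : Type} [AddCommGroup M]
    (w : (aff L (Fin n)).left ⟶ Spec (CommRingCat.of (MonoidAlgebra (ULift.{u} ℤ) (Multiplicative M)))) :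
    w = (z0 L n).left ≫ w := by
  obtain ⟨ψ, rfl⟩ := Spec.map_surjective w
  let ev : MvPolynomial (Fin n) L →+* MvPolynomial (Fin n) L :=
    MvPolynomial.C.comp (MvPolynomial.aeval (fun _ : Fin n => (0 : L))).toRingHom
  have hz : (z0 L n).left = Spec.map (CommRingCat.ofHom ev) := by
    rw [z0_left]
    change Spec.map _ ≫ 𝟙 _ ≫ Spec.map _ = _
    rw [Category.id_comp, ← Spec.map_comp]
    rfl
  rw [hz]
  change Spec.map ψ = Spec.map _ ≫ Spec.map ψ
  rw [← Spec.map_comp]
  congr 1
  apply CommRingCat.hom_ext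
  refine MonoidAlgebra.ringHom_ext (fun r => ?_) fun m => ?_
  · obtain ⟨r⟩ := r
    exact RingHom.congr_fun (Subsingleton.elim
      ((ψ.hom.comp MonoidAlgebra.singleOneRingHom).comp (ULift.ringEquiv (R := ℤ)).symm.toRingHom)
      (((ev.comp ψ.hom).comp MonoidAlgebra.singleOneRingHom).comp (ULift.ringEquiv (R := ℤ)).symm.toRingHom)) r
  · have hu : IsUnit (MonoidAlgebra.single m (1 : ULift.{u} ℤ)) :=
      ⟨⟨MonoidAlgebra.single m 1, MonoidAlgebra.single m⁻¹ 1,
        by simp [MonoidAlgebra.single_mul_single, MonoidAlgebra.one_def],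
        by simp [MonoidAlgebra.single_mul_single, MonoidAlgebra.one_def]⟩, rfl⟩
    obtain ⟨c, -, hc⟩ := MvPolynomial.isUnit_iff_eq_C_of_isReduced.1 (hu.map ψ.hom)
    change ψ.hom _ = ev (ψ.hom _)
    rw [hc]
    simp [ev]

variable (ν : Spec (CommRingCat.of L) ⟶ Spec (CommRingCat.of k))

/-- constancy through an isomorphic object with constant coordinates -/
theorem const_of_iso {T : Over (Spec (CommRingCat.of k))} {U : Scheme.{u}} {c : U ⟶ Spec (CommRingCat.of k)}
    {B : Over U} {X₀ : Scheme.{u}} (π : B.left ⟶ X₀)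
    (hπ : ∀ {Y : Over U} (a b : Y ⟶ B), a.left ≫ π = b.left ≫ π → a = b)
    (hX₀ : ∀ w : (aff L (Fin n)).left ⟶ X₀, w = (z0 L n).left ≫ w) (e' : Red.bc c T ≅ B)
    (s : Spec (CommRingCat.of L) ⟶ U) (hs : s ≫ c = ν) (t : dn ν (aff L (Fin n)) ⟶ T) :
    dnHom ν (z0 L n) ≫ t = t := by
  let Y : Over U := Over.mk ((aff L (Fin n)).hom ≫ s)
  have hw : t.left ≫ T.hom = ((aff L (Fin n)).hom ≫ s) ≫ c := by
    rw [Over.w t, Category.assoc, hs]
    rfl
  let t₁ : Y ⟶ Red.bc c T := Over.homMk (pullback.lift t.left ((aff L (Fin n)).hom ≫ s) hw) (pullback.lift_snd _ _ _)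
  let zY : Y ⟶ Y := Over.homMk (z0 L n).left (by
    change (z0 L n).left ≫ (aff L (Fin n)).hom ≫ s = _
    rw [← Category.assoc, Over.w (z0 L n)]
    rfl)
  have h1 : zY ≫ t₁ ≫ e'.hom = t₁ ≫ e'.hom := by
    refine hπ _ _ ?_
    rw [Over.comp_left, Category.assoc]
    exact (hX₀ _).symm
  rw [← Category.assoc] at h1
  have h2 : zY ≫ t₁ = t₁ := (cancel_mono e'.hom).1 h1
  apply Over.OverMorphism.ext
  have h3 := congrArg (fun f : Y ⟶ Red.bc c T => f.left ≫ pullback.fst T.hom c) h2
  simpa [zY, t₁] using h3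

/-- a map of affine space to a torus split over the point is constant -/
theorem torus_const {T : Over (Spec (CommRingCat.of k))} [GrpObj T] {U : Scheme.{u}}
    {c : U ⟶ Spec (CommRingCat.of k)} {r : ℕ} (hU : Red.IsSplitTorusWith (Fin r → ℤ) (Red.bc c T))
    (s : Spec (CommRingCat.of L) ⟶ U) (hs : s ≫ c = ν) (t : dn ν (aff L (Fin n)) ⟶ T) :
    dnHom ν (z0 L n) ≫ t = t :=
  hU.elim fun e => const_of_iso ν (pullback.fst _ _) (fun _ _ h => AgBC.eq_of_fst _ h)
    (fun w => split_const w) ((Grp.forget _).mapIso e) s hs t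

set_option maxHeartbeats 4000000 in
/-- **a map of affine space to an extension of an abelian variety by a torus is constant** -/
theorem largeGrp_const (G G0 T A : Over (Spec (CommRingCat.of k))) [GrpObj G] [GrpObj G0] (e : G0 ⟶ G) [IsMonHom e]
    [IsOpenImmersion e.left] [GrpObj T] (i : T ⟶ G0) [IsMonHom i] [GrpObj A] [IsProper A.hom]
    [GeometricallyIntegral A.hom] (q : G0 ⟶ A) [IsMonHom q] (hker : AlgGrp.IsKernel i q) {U : Scheme.{u}}
    {c : U ⟶ Spec (CommRingCat.of k)} {r : ℕ} (hU : Red.IsSplitTorusWith (Fin r → ℤ) (Red.bc c T))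
    (s : Spec (CommRingCat.of L) ⟶ U) (hs : s ≫ c = ν) (g : dn ν (aff L (Fin n)) ⟶ G)
    (hg : dnHom ν (z0 L n) ≫ g = 1) : g = 1 := by
  let P := dn ν (aff L (Fin n))
  have hrange : Set.range g.left ⊆ Set.range e.left := by
    have hc : IsClopen (g.left ⁻¹' Set.range e.left) :=
      ⟨(S0352.result k G0 G e e.left.isOpenEmbedding.isOpen_range).preimage g.left.continuous,
        e.left.isOpenEmbedding.isOpen_range.preimage g.left.continuous⟩
    haveI : IsIntegral P.left := inferInstanceAs (IsIntegral (Spec (CommRingCat.of (MvPolynomial (Fin n) L))))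
    rcases isClopen_iff.1 hc with h | h
    · exfalso
      obtain ⟨x⟩ := (inferInstance : Nonempty P.left)
      refine Set.eq_empty_iff_forall_notMem.1 h ((z0 L n).left x) ?_
      change g.left ((z0 L n).left x) ∈ Set.range e.left
      exact ⟨(1 : P ⟶ G0).left x, ((congrArg (fun f : P ⟶ G => f.left x) hg).trans
        (congrArg (fun f : P ⟶ G => f.left x) (MonObj.one_comp e).symm)).symm⟩
    · rintro _ ⟨x, rfl⟩
      exact Set.eq_univ_iff_forall.1 h x
  let g₀ : P ⟶ G0 := Over.homMk (IsOpenImmersion.lift e.left g.left hrange) (by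
    rw [← Over.w e, ← Category.assoc, IsOpenImmersion.lift_fac, Over.w])
  have hg₀ : g₀ ≫ e = g := Over.OverMorphism.ext (IsOpenImmersion.lift_fac _ _ _)
  haveI : Mono e := Over.mono_of_mono_left e
  have hz₀ : dnHom ν (z0 L n) ≫ g₀ = 1 := by
    rw [← cancel_mono e, Category.assoc, hg₀, hg, MonObj.one_comp]
  haveI : IsProper (Red.bc ν A).hom := inferInstanceAs (IsProper (pullback.snd A.hom ν))
  haveI : GeometricallyIntegral (Red.bc ν A).hom := inferInstanceAs (GeometricallyIntegral (pullback.snd A.hom ν))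
  have hq : g₀ ≫ q = 1 := by
    let a := (Over.mapPullbackAdj ν).homEquiv (aff L (Fin n)) A (g₀ ≫ q)
    have ha : toDn ν a = g₀ ≫ q := Equiv.symm_apply_apply _ _
    have h1 : a = z0 L n ≫ a := by
      rw [z0, Category.assoc]
      exact aff_const _ a
    have h2 := congrArg (toDn ν) h1
    rw [toDn_comp, ha, ← Category.assoc, hz₀, MonObj.one_comp] at h2
    exact h2
  let t : P ⟶ T := hker.lift g₀ (toUnit P) (by rw [hq, Hom.one_def])
  have ht : t ≫ i = g₀ := hker.lift_fst _ _ _
  rw [← hg₀, ← ht, ← torus_const ν hU s hs t, Category.assoc (dnHom ν (z0 L n)) t i, ht, hz₀, MonObj.one_comp]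

/-- the affine space over the base -/
theorem aff_eq (k : Type u) [Field k] (n : ℕ) :
    Over.mk (Spec.map (CommRingCat.ofHom (algebraMap k (MvPolynomial (Fin n) k)))) = aff k (Fin n) := rfl

variable [PerfectField k]

set_option maxHeartbeats 4000000 in
/-- **factorisation through the first projection** -/
theorem exists_factor_fst (X : Over (Spec (CommRingCat.of k))) [IsReduced X.left] [IsSeparated X.hom]
    [LocallyOfFiniteType X.hom] (G G0 T A : Over (Spec (CommRingCat.of k))) [GrpObj G] [IsSeparated G.hom]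
    [LocallyOfFiniteType G.hom] [GrpObj G0] (e : G0 ⟶ G) [IsMonHom e] [IsOpenImmersion e.left]
    [GrpObj T] (i : T ⟶ G0) [IsMonHom i] (hT : Red.IsTorus T) [GrpObj A] [IsProper A.hom]
    [GeometricallyIntegral A.hom] (q : G0 ⟶ A) [IsMonHom q] (hker : AlgGrp.IsKernel i q)
    (φ : X ⊗ aff k (Fin n) ⟶ G) :
    φ = fst X (aff k (Fin n)) ≫ lift (𝟙 X) (toUnit X ≫ zeroPt k (Fin n)) ≫ φ := by
  obtain ⟨S', f, -, hfs, -, hsplit⟩ := hT
  obtain ⟨s', -⟩ := hfs.surj (IsLocalRing.closedPoint k)
  obtain ⟨U, hsU, r, hU⟩ := hsplit s'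
  let L := AlgebraicClosure (U.toScheme.residueField ⟨s', hsU⟩)
  let s : Spec (CommRingCat.of L) ⟶ U.toScheme :=
    Spec.map (CommRingCat.ofHom (algebraMap (U.toScheme.residueField ⟨s', hsU⟩) L)) ≫
      U.toScheme.fromSpecResidueField ⟨s', hsU⟩
  let ν : Spec (CommRingCat.of L) ⟶ Spec (CommRingCat.of k) := s ≫ U.ι ≫ f
  haveI : Surjective ν := ⟨fun _ => ⟨IsLocalRing.closedPoint _, Subsingleton.elim (α := PrimeSpectrum k) _ _⟩⟩
  letI : Algebra k L := (Spec.preimage ν).hom.toAlgebra
  have hν : ν = Spec.map (CommRingCat.ofHom (algebraMap k L)) := (Spec.map_preimage ν).symm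
  let ψ := lift (𝟙 X) (toUnit X ≫ zeroPt k (Fin n)) ≫ φ
  let D : X ⊗ aff k (Fin n) ⟶ G := φ * (fst X _ ≫ ψ)⁻¹
  suffices hD : D = 1 from mul_inv_eq_one.1 hD
  -- along a geometric point of `X`
  let μ₀ : MvPolynomial (Fin n) k →+* MvPolynomial (Fin n) L := MvPolynomial.map (algebraMap k L)
  let mA : dn ν (aff L (Fin n)) ⟶ aff k (Fin n) := Over.homMk (Spec.map (CommRingCat.ofHom μ₀)) (by
    change Spec.map _ ≫ Spec.map _ = Spec.map _ ≫ ν
    rw [hν, ← Spec.map_comp, ← Spec.map_comp]
    congr 1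
    ext1
    exact RingHom.ext fun c => MvPolynomial.map_C _ c)
  have hline : ∀ x : Over.mk ν ⟶ X,
      lift ((Over.homMk (aff L (Fin n)).hom rfl : dn ν (aff L (Fin n)) ⟶ Over.mk ν) ≫ x) mA ≫ D = 1 := by
    intro x
    refine largeGrp_const ν G G0 T A e i q hker hU s rfl _ ?_
    have e0 : dnHom ν (z0 L n) ≫ (Over.homMk (aff L (Fin n)).hom rfl : dn ν (aff L (Fin n)) ⟶ Over.mk ν) =
        Over.homMk (aff L (Fin n)).hom rfl := Over.OverMorphism.ext (Over.w (z0 L n))
    have e1 : dnHom ν (z0 L n) ≫ mA = toUnit _ ≫ zeroPt k (Fin n) := by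
      apply Over.OverMorphism.ext
      change (z0 L n).left ≫ Spec.map _ = ((aff L (Fin n)).hom ≫ ν) ≫ 𝟙 _ ≫ Spec.map _
      rw [z0_left, hν]
      change (Spec.map _ ≫ 𝟙 _ ≫ Spec.map _) ≫ Spec.map _ = _
      simp only [Category.id_comp, ← Spec.map_comp, Category.assoc]
      change _ = Spec.map _ ≫ Spec.map _
      rw [← Spec.map_comp]
      congr 1
      apply CommRingCat.hom_ext
      refine MvPolynomial.ringHom_ext (fun a => ?_) fun j => ?_
      · simp [μ₀]
      · simp [μ₀]
    rw [← Category.assoc, comp_lift, ← Category.assoc, e0, e1]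
    have key : ∀ {Z : Over (Spec (CommRingCat.of k))} (a : Z ⟶ X), lift a (toUnit Z ≫ zeroPt k (Fin n)) ≫ D = 1 := by
      intro Z a
      have e2 : lift a (toUnit Z ≫ zeroPt k (Fin n)) ≫ φ = a ≫ ψ := by
        simp only [ψ, ← Category.assoc, comp_lift, Category.comp_id, comp_toUnit]
      simp only [D, MonObj.comp_mul, GrpObj.comp_inv, ← Category.assoc, lift_fst, e2, mul_inv_cancel]
    exact key _
  -- density of the points
  haveI : GeometricallyReduced X.hom := Rigid.geometricallyReduced_of_perfect _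
  haveI : IsLocallyNoetherian (Spec (CommRingCat.of L)) := inferInstance
  let Z := X ⊗ aff k (Fin n)
  haveI := smooth_aff (K := k) (σ := Fin n)
  haveI : Smooth (fst X (aff k (Fin n))).left := MorphismProperty.pullback_fst (P := @Smooth) X.hom _ ‹_›
  haveI : IsReduced (Limits.pullback X.hom ν) := inferInstance
  let pX : Limits.pullback Z.hom ν ⟶ Limits.pullback X.hom ν :=
    pullback.map Z.hom ν X.hom ν (fst X (aff k (Fin n))).left (𝟙 _) (𝟙 _)
      (by rw [Over.w, Category.comp_id]) (by simp)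
  haveI : Smooth pX := by
    have hb : IsPullback pX (pullback.fst Z.hom ν) (pullback.fst X.hom ν) (fst X (aff k (Fin n))).left :=
      IsPullback.of_right (h₁₂ := pullback.snd X.hom ν) (v₁₃ := ν) (h₂₂ := X.hom) (by
        have e : (fst X (aff k (Fin n))).left ≫ X.hom = Z.hom := Over.w _
        rw [pullback.lift_snd, e, Category.comp_id]
        exact (IsPullback.of_hasPullback Z.hom ν).flip) (pullback.lift_fst _ _ _) (IsPullback.of_hasPullback X.hom ν).flip
    exact MorphismProperty.of_isPullback (P := @Smooth) hb.flip ‹_›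
  haveI : IsReduced (Limits.pullback Z.hom ν) := AlgSpLib.isReduced_of_smooth pX
  let Z' := Red.bc ν Z
  haveI : IsReduced Z'.left := ‹_›
  haveI : LocallyOfFiniteType (aff k (Fin n)).hom := inferInstance
  haveI : LocallyOfFiniteType Z.hom :=
    MorphismProperty.comp_mem _ _ _ (MorphismProperty.pullback_fst (P := @LocallyOfFiniteType) X.hom _ ‹_›) ‹_›
  haveI : LocallyOfFiniteType Z'.hom := inferInstanceAs (LocallyOfFiniteType (pullback.snd Z.hom ν))
  haveI : IsSeparated (Red.bc ν G).hom := inferInstanceAs (IsSeparated (pullback.snd G.hom ν))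
  haveI : LocallyOfFiniteType (Red.bc ν G).hom := inferInstanceAs (LocallyOfFiniteType (pullback.snd G.hom ν))
  have hmap : (Over.pullback ν).map D = (Over.pullback ν).map 1 := by
    refine AVDeg.hom_ext_points (A := Z') fun p => ?_
    apply ((Over.mapPullbackAdj ν).homEquiv _ G).symm.injective
    have ed : ∀ f : Z ⟶ G, toDn ν (p ≫ (Over.pullback ν).map f) = toDn ν p ≫ f := fun f => by
      exact Adjunction.homEquiv_naturality_right_symm _ _ _
    change toDn ν (p ≫ (Over.pullback ν).map D) = toDn ν (p ≫ (Over.pullback ν).map 1)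
    rw [ed, ed, MonObj.comp_one]
    let P₀ := toDn ν p
    let j : Over.mk ν ⟶ dn ν (AVDeg.one' L) := Over.homMk (𝟙 _) (Category.id_comp _ |>.trans (Category.id_comp _))
    let j' : dn ν (AVDeg.one' L) ⟶ Over.mk ν := Over.homMk (𝟙 _) (by simp)
    -- the second coordinate as a point of affine space
    let y := j ≫ P₀ ≫ snd X (aff k (Fin n))
    obtain ⟨b, hb⟩ := Spec.map_surjective y.left
    have hb' : ∀ a, b.hom (MvPolynomial.C a) = algebraMap k L a := fun a => by
      have h : Spec.map (CommRingCat.ofHom (algebraMap k (MvPolynomial (Fin n) k)) ≫ b) = ν := by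
        rw [Spec.map_comp, hb]
        exact Over.w y
      rw [hν] at h
      exact congrArg (fun h => h.hom a) (Spec.map_injective h)
    let v : AVDeg.one' L ⟶ aff L (Fin n) :=
      toSpecSelf ≫ affPt (MvPolynomial.aeval fun m => b.hom (MvPolynomial.X m))
    have hfac : P₀ = dnHom ν v ≫
        lift ((Over.homMk (aff L (Fin n)).hom rfl : dn ν (aff L (Fin n)) ⟶ Over.mk ν) ≫ (j ≫ P₀ ≫ fst X _)) mA := by
      rw [comp_lift]
      apply CartesianMonoidalCategory.hom_ext
      · rw [lift_fst]
        apply Over.OverMorphism.ext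
        change _ = v.left ≫ (aff L (Fin n)).hom ≫ 𝟙 _ ≫ _
        rw [← Category.assoc v.left, Over.w v]
        simp
      · rw [lift_snd]
        apply Over.OverMorphism.ext
        change (P₀ ≫ snd _ _).left = (𝟙 _ ≫ Spec.map _) ≫ Spec.map _
        have e3 : (P₀ ≫ snd X (aff k (Fin n))).left = y.left := (Category.id_comp _).symm
        rw [e3, ← hb, Category.id_comp, ← Spec.map_comp]
        congr 1
        apply CommRingCat.hom_ext
        refine MvPolynomial.ringHom_ext (fun a => ?_) fun m => ?_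
        · rw [hb' a]; simp [μ₀]
        · simp [μ₀]
    change P₀ ≫ D = 1
    rw [hfac, Category.assoc, hline, MonObj.comp_one]
  haveI : Flat ν := by rw [hν]; infer_instance
  haveI : Epi (pullback.fst Z.hom ν) := by
    haveI : QuasiCompact ν := by rw [hν]; infer_instance
    exact Flat.epi_of_flat_of_surjective _
  apply Over.OverMorphism.ext
  rw [← cancel_epi (pullback.fst Z.hom ν)]
  have := congrArg (fun h => h.left ≫ pullback.fst G.hom ν) hmap
  simp [Over.pullback] at this
  exact this

end Groth.Agent.AVRat
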