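import Groth.Agent.AVRat.Rational
import Groth.Agent.FlatMor.ReducedDescent
import Groth.Agent.Rigid.Lemma

/-!
Families of projective spaces map constantly to abelian schemes.
-/

set_option autoImplicit false
set_option backward.isDefEq.respectTransparency false
set_option backward.isDefEq.respectTransparency.types false
set_option linter.style.haveILetI false
set_option linter.unusedSectionVars false
set_option maxHeartbeats 2000000
set_option synthInstance.maxHeartbeats 200000

universe u

open CategoryTheory CategoryTheory.Limits MonoidalCategory CartesianMonoidalCategory MonObj GrpObj AlgebraicGeometry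

noncomputable section

namespace Groth.Agent.AVRat

variable {S : Scheme.{u}} (A P : Over S) [GrpObj A] [IsProper A.hom] [GeometricallyIntegral A.hom]
  [IsProper P.hom] [Flat P.hom] [LocallyOfFinitePresentation P.hom]
  (hP : ∀ (K : Type u) [Field K] [IsAlgClosed K] (s : Spec (CommRingCat.of K) ⟶ S),
    ∃ (n : ℕ) (e : pullback P.hom s ≅ CohB1.ProjSpace n K), e.hom ≫ CohB1.ProjSpace.toSpec n K = pullback.snd P.hom s)

include hP in
theorem exists_factor (φ : P ⟶ A) : ∃ a : 𝟙_ (Over S) ⟶ A, φ = toUnit P ≫ a := by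
  -- over a field the fibre becomes a projective space after extension
  have hbar : ∀ (L : Type u) [Field L] (y : Spec (CommRingCat.of L) ⟶ S) (Z : Scheme.{u}) (p : Z ⟶ P.left)
      (q : Z ⟶ Spec (CommRingCat.of L)), IsPullback p q P.hom y →
      ∃ (Zb : Scheme.{u}) (π : Zb ⟶ Z), IsIntegral Zb ∧ Flat π ∧ Surjective π := by
    intro L _ y Z p q h
    let σ := Spec.map (CommRingCat.ofHom (algebraMap L (AlgebraicClosure L)))
    haveI : Surjective σ := ⟨fun _ => ⟨IsLocalRing.closedPoint _, Subsingleton.elim (α := PrimeSpectrum L) _ _⟩⟩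
    have hsq := (IsPullback.of_hasPullback q σ).paste_horiz h
    obtain ⟨n, e, -⟩ := hP _ (σ ≫ y)
    haveI := Horrocks.isIntegral_projSpace (k := AlgebraicClosure L) (n := n)
    refine ⟨pullback q σ, pullback.fst q σ, ?_, inferInstance, inferInstance⟩
    haveI : Nonempty ↥(pullback P.hom (σ ≫ y)) := ⟨e.inv (Classical.arbitrary _)⟩
    haveI : IsIntegral (pullback P.hom (σ ≫ y)) := isIntegral_of_isOpenImmersion e.hom
    haveI : Nonempty ↥(pullback q σ) := ⟨hsq.isoPullback.inv (Classical.arbitrary _)⟩
    exact isIntegral_of_isOpenImmersion hsq.isoPullback.hom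
  haveI : GeometricallyConnected P.hom := ⟨fun L _ y Z p q h => by
    obtain ⟨Zb, π, hZ, -, hπ⟩ := hbar L y Z p q h
    haveI := hZ; haveI := hπ
    haveI : ConnectedSpace Zb := inferInstance
    exact π.surjective.connectedSpace π.continuous⟩
  haveI : GeometricallyReduced P.hom := ⟨fun L _ y Z p q h => by
    obtain ⟨Zb, π, hZ, hf, hπ⟩ := hbar L y Z p q h
    haveI := hZ; haveI := hπ; haveI := hf
    exact FlatMor.isReduced_of_flat_surjective π⟩
  haveI : Surjective P.hom := ⟨fun s => by
    obtain ⟨Zb, π, hZ, -, hπ⟩ := hbar _ (S.fromSpecResidueField s) _ _ _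
      (IsPullback.of_hasPullback P.hom (S.fromSpecResidueField s))
    haveI := hZ
    obtain ⟨z⟩ := (inferInstance : Nonempty Zb)
    exact ⟨_, (P.hom.range_fiberι s).le ⟨π z, rfl⟩⟩⟩
  have hcol : ∀ s, (φ.left '' (P.hom ⁻¹' {s})).Subsingleton := fun s => by
    let K := AlgebraicClosure (S.residueField s)
    let t : Spec (CommRingCat.of K) ⟶ S :=
      Spec.map (CommRingCat.ofHom (algebraMap (S.residueField s) K)) ≫ S.fromSpecResidueField s
    have ht : ∀ x, t x = s := fun x => by
      change S.fromSpecResidueField s _ = s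
      exact S.range_fromSpecResidueField s |>.le ⟨_, rfl⟩
    haveI : GeometricallyIntegral (Red.bc t A).hom :=
      inferInstanceAs (GeometricallyIntegral (pullback.snd A.hom t))
    haveI : IsProper (Red.bc t A).hom := inferInstanceAs (IsProper (pullback.snd A.hom t))
    obtain ⟨n, e, he⟩ := hP K t
    let f : Over.mk (CohB1.ProjSpace.toSpec n K) ⟶ Red.bc t A :=
      (Over.homMk e.inv (by simp [Red.bc, Over.pullback, ← he]) : Over.mk (CohB1.ProjSpace.toSpec n K) ⟶ Red.bc t P) ≫
        (Over.pullback t).map φ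
    obtain ⟨a, ha⟩ := proj_const n (Red.bc t A) f
    rintro _ ⟨x, hx, rfl⟩ _ ⟨x', hx', rfl⟩
    have key : ∀ x, P.hom x = s →
        φ.left x = pullback.fst A.hom t (a.left (IsLocalRing.closedPoint K)) := fun x hx => by
      obtain ⟨v, hv, -⟩ := Scheme.Pullback.exists_preimage_pullback (f := P.hom) (g := t) x
        (IsLocalRing.closedPoint K) (hx.trans (ht _).symm)
      have e1 : f.left ≫ pullback.fst A.hom t = e.inv ≫ pullback.fst P.hom t ≫ φ.left := by
        simp [f, Over.pullback]
      rw [← hv, ← Scheme.Hom.comp_apply, ← Iso.hom_inv_id_assoc e (pullback.fst P.hom t ≫ φ.left), ← e1, ha]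
      simp only [Scheme.Hom.comp_apply, Over.comp_left]
      exact congrArg (fun w => pullback.fst A.hom t (a.left w))
        (Subsingleton.elim (α := PrimeSpectrum K) _ _)
    rw [key x hx, key x' hx']
  obtain ⟨k, ⟨hk, hk'⟩, -⟩ := Rigid.exists_factor_of_forall P.hom (Rigid.goodFibres_of_geometrically P.hom)
    (𝟙 S) A.hom φ.left (by rw [Over.w φ]; exact (Category.comp_id _).symm) hcol
  exact ⟨Over.homMk k hk, Over.OverMorphism.ext hk'⟩

end Groth.Agent.AVRat
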