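import Groth.Agent.AVRat.Descend
import Groth.Agent.ProjMor.ProjSpaceBase
import Groth.Agent.Horrocks.Dim

/-!
Maps from affine and projective spaces to abelian varieties are constant.
-/

set_option autoImplicit false
set_option backward.isDefEq.respectTransparency false
set_option backward.isDefEq.respectTransparency.types false
set_option linter.style.haveILetI false
set_option linter.unusedSectionVars false
set_option maxHeartbeats 2000000
set_option synthInstance.maxHeartbeats 200000

universe u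

open CategoryTheory MonoidalCategory CartesianMonoidalCategory MonObj GrpObj AlgebraicGeometry
open scoped TensorProduct

noncomputable section

namespace Groth.Agent.AVRat

variable (K : Type u) [Field K] (σ : Type) [Finite σ]

/-- affine space -/
abbrev aff : Over (Spec (CommRingCat.of K)) :=
  Over.mk (Spec.map (CommRingCat.ofHom (algebraMap K (MvPolynomial σ K))))

variable {K σ}

/-- a point of affine space -/
def affPt {R : Type u} [CommRing R] [Algebra K R] (φ : MvPolynomial σ K →ₐ[K] R) :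
    (Over.mk (Spec.map (CommRingCat.ofHom (algebraMap K R))) : Over (Spec (CommRingCat.of K))) ⟶ aff K σ :=
  Over.homMk (Spec.map (CommRingCat.ofHom φ.toRingHom)) (by
    change Spec.map _ ≫ Spec.map _ = Spec.map _
    rw [← Spec.map_comp]
    congr 1
    ext1
    exact RingHom.ext fun c => φ.commutes c)

theorem smooth_aff : Smooth (aff K σ).hom := by
  haveI : Algebra.FormallySmooth K (MvPolynomial σ K) := inferInstance
  haveI : Algebra.FinitePresentation K (MvPolynomial σ K) := inferInstance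
  haveI : Algebra.Smooth K (MvPolynomial σ K) := ⟨inferInstance, inferInstance⟩
  change Smooth (Spec.map _)
  rw [HasRingHomProperty.Spec_iff (P := @Smooth)]
  exact RingHom.smooth_algebraMap.2 inferInstance

/-- the unit object as a spectrum -/
def toSpecSelf : 𝟙_ (Over (Spec (CommRingCat.of K))) ⟶ Over.mk (Spec.map (CommRingCat.ofHom (algebraMap K K))) :=
  Over.homMk (𝟙 _) (by simp)

/-- the origin -/
def zeroPt (K : Type u) [Field K] (σ : Type) [Finite σ] : 𝟙_ (Over (Spec (CommRingCat.of K))) ⟶ aff K σ :=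
  toSpecSelf ≫ affPt (MvPolynomial.aeval fun _ => (0 : K))

theorem geometricallyIntegral_aff : GeometricallyIntegral (aff K σ).hom := by
  haveI := smooth_aff (K := K) (σ := σ)
  haveI : IsIntegral (aff K σ).left := inferInstanceAs (IsIntegral (Spec (CommRingCat.of (MvPolynomial σ K))))
  haveI := Rigid.geometricallyConnected_of_section (aff K σ).hom (zeroPt K σ).left (Over.w (zeroPt K σ))
  exact ClosedRep.GeomIntegral.geometricallyIntegral_of_smooth _

variable (K σ) in
/-- scaling: `x ↦ t x` -/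
def scaleAlg : MvPolynomial σ K →ₐ[K] MvPolynomial Unit K ⊗[K] MvPolynomial σ K :=
  MvPolynomial.aeval fun i => MvPolynomial.X () ⊗ₜ[K] MvPolynomial.X i

/-- the product of two affine spaces -/
def prodIso : aff K Unit ⊗ aff K σ ⟶
    Over.mk (Spec.map (CommRingCat.ofHom (algebraMap K (MvPolynomial Unit K ⊗[K] MvPolynomial σ K)))) :=
  Over.homMk (pullbackSpecIso K (MvPolynomial Unit K) (MvPolynomial σ K)).hom (by
    change (pullbackSpecIso K _ _).hom ≫ Spec.map _ = Limits.pullback.fst _ _ ≫ Spec.map _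
    rw [← pullbackSpecIso_hom_fst, Category.assoc, ← Spec.map_comp]
    rfl)

variable (K σ) in
/-- scaling as a morphism -/
def scale : aff K Unit ⊗ aff K σ ⟶ aff K σ := prodIso ≫ affPt (scaleAlg K σ)

theorem lift_affPt {R : Type u} [CommRing R] [Algebra K R] (φ : MvPolynomial Unit K →ₐ[K] R)
    (ψ : MvPolynomial σ K →ₐ[K] R) :
    lift (affPt φ) (affPt ψ) ≫ scale K σ =
      affPt ((Algebra.TensorProduct.productMap φ ψ).comp (scaleAlg K σ)) := by
  have h : lift (affPt φ) (affPt ψ) ≫ prodIso =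
      Over.homMk (Spec.map (CommRingCat.ofHom (Algebra.TensorProduct.productMap φ ψ).toRingHom)) (by
        change Spec.map _ ≫ Spec.map _ = Spec.map _
        rw [← Spec.map_comp]
        congr 1
        ext1
        exact RingHom.ext fun c => (Algebra.TensorProduct.productMap φ ψ).commutes c) := by
    apply Over.OverMorphism.ext
    change (lift (affPt φ) (affPt ψ)).left ≫ (pullbackSpecIso K _ _).hom = Spec.map _
    rw [← cancel_mono (pullbackSpecIso K (MvPolynomial Unit K) (MvPolynomial σ K)).inv, Category.assoc,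
      Iso.hom_inv_id, Category.comp_id]
    apply Limits.pullback.hom_ext
    · rw [Category.assoc]
      erw [pullbackSpecIso_inv_fst]
      rw [← Spec.map_comp]
      change (lift (affPt φ) (affPt ψ) ≫ fst _ _).left = _
      rw [lift_fst]
      change Spec.map _ = Spec.map _
      congr 1
      ext1
      exact RingHom.ext fun x => (Algebra.TensorProduct.productMap_left_apply φ ψ x).symm
    · rw [Category.assoc]
      erw [pullbackSpecIso_inv_snd]
      rw [← Spec.map_comp]
      change (lift (affPt φ) (affPt ψ) ≫ snd _ _).left = _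
      rw [lift_snd]
      change Spec.map _ = Spec.map _
      congr 1
      ext1
      exact RingHom.ext fun x => (Algebra.TensorProduct.productMap_right_apply φ ψ x).symm
  rw [scale, ← Category.assoc, h]
  apply Over.OverMorphism.ext
  change Spec.map _ ≫ Spec.map _ = Spec.map _
  rw [← Spec.map_comp]
  rfl

/-- **maps from affine space to an abelian variety are constant** -/
theorem aff_const (A : Over (Spec (CommRingCat.of K))) [GrpObj A] [IsProper A.hom] [GeometricallyIntegral A.hom]
    (f : aff K σ ⟶ A) : f = toUnit _ ≫ zeroPt K σ ≫ f := by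
  haveI := smooth_aff (K := K) (σ := σ)
  haveI := smooth_aff (K := K) (σ := Unit)
  haveI := geometricallyIntegral_aff (K := K) (σ := σ)
  haveI := geometricallyIntegral_aff (K := K) (σ := Unit)
  haveI : IsSeparated (aff K σ).hom := inferInstanceAs (IsSeparated (Spec.map _))
  haveI : IsSeparated (aff K Unit).hom := inferInstanceAs (IsSeparated (Spec.map _))
  haveI : QuasiCompact (aff K σ).hom := inferInstanceAs (QuasiCompact (Spec.map _))
  haveI : QuasiCompact (aff K Unit).hom := inferInstanceAs (QuasiCompact (Spec.map _))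
  let f₀ : aff K σ ⟶ A := f * (toUnit _ ≫ zeroPt K σ ≫ f)⁻¹
  suffices h : f₀ = 1 from mul_inv_eq_one.1 h
  have h0 : zeroPt K σ ≫ f₀ = 1 := by
    rw [MonObj.comp_mul, GrpObj.comp_inv, ← Category.assoc (zeroPt K σ) (toUnit _),
      toUnit_unique (zeroPt K σ ≫ toUnit _) (𝟙 _), Category.id_comp, mul_inv_cancel]
  -- compatibility with scaling
  have key : ∀ (τ : Type) [Finite τ] (φ : MvPolynomial Unit K →ₐ[K] MvPolynomial τ K)
      (ψ : MvPolynomial σ K →ₐ[K] MvPolynomial τ K),
      (∀ i, φ (MvPolynomial.X ()) * ψ (MvPolynomial.X i) = 0) →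
        lift (affPt φ) (affPt ψ) ≫ scale K σ = toUnit _ ≫ zeroPt K σ := by
    intro τ _ φ ψ h
    rw [lift_affPt, show (Algebra.TensorProduct.productMap φ ψ).comp (scaleAlg K σ) =
        (Algebra.ofId K _).comp (MvPolynomial.aeval fun _ => (0 : K)) from MvPolynomial.algHom_ext fun i => by
      simpa [scaleAlg] using h i]
    apply Over.OverMorphism.ext
    change Spec.map _ = Spec.map _ ≫ 𝟙 _ ≫ Spec.map _
    rw [Category.id_comp, ← Spec.map_comp]
    rfl
  have hid : ∀ (τ : Type) [Finite τ], affPt (AlgHom.id K (MvPolynomial τ K)) = 𝟙 (aff K τ) := fun τ _ =>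
    Over.OverMorphism.ext (Spec.map_id _)
  have hconst : ∀ (τ ρ : Type) [Finite τ] [Finite ρ] (c : K),
      affPt ((Algebra.ofId K (MvPolynomial τ K)).comp (MvPolynomial.aeval fun _ : ρ => c)) =
        toUnit _ ≫ toSpecSelf ≫ affPt (MvPolynomial.aeval fun _ : ρ => c) := fun τ ρ _ _ c => by
    apply Over.OverMorphism.ext
    change Spec.map _ = Spec.map _ ≫ 𝟙 _ ≫ Spec.map _
    rw [Category.id_comp, ← Spec.map_comp]
    rfl
  have hF : scale K σ ≫ f₀ = 1 := by
    refine eq_one_of_axes' (aff K Unit) (aff K σ) A (zeroPt K Unit) (toUnit _ ≫ zeroPt K σ) _ ?_ ?_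
    · rw [zeroPt, ← hconst, ← hid, ← Category.assoc, key σ _ _ (fun i => by simp), Category.assoc, h0,
        MonObj.comp_one]
    · have e : lift (𝟙 (aff K Unit)) (toUnit _ ≫ zeroPt K σ) ≫ scale K σ ≫ f₀ = 1 := by
        rw [zeroPt, ← hconst, ← hid, ← Category.assoc, key Unit _ _ (fun i => by simp), Category.assoc, h0,
          MonObj.comp_one]
      have e' := congrArg (fst (aff K Unit) (Over.mk (geomPt K)) ≫ ·) e
      simp only [MonObj.comp_one] at e'
      rw [← e', ← Category.assoc (fst (aff K Unit) (Over.mk (geomPt K)))]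
      refine congrArg (· ≫ scale K σ ≫ f₀) ?_
      apply CartesianMonoidalCategory.hom_ext
      · rw [lift_fst, Category.assoc, lift_fst, Category.comp_id]
      · rw [lift_snd, Category.assoc, lift_snd, ← Category.assoc, ← Category.assoc]
        exact congrArg (· ≫ zeroPt K σ) (toUnit_unique _ _)
  let φ₁ : MvPolynomial Unit K →ₐ[K] MvPolynomial σ K := MvPolynomial.aeval fun _ => 1
  have h1 : lift (affPt φ₁) (𝟙 (aff K σ)) ≫ scale K σ = 𝟙 _ := by
    rw [← hid, lift_affPt]
    congr 1
    refine MvPolynomial.algHom_ext fun i => ?_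
    simp [scaleAlg, φ₁]
  have e := congrArg (lift (affPt φ₁) (𝟙 (aff K σ)) ≫ ·) hF
  simp only [MonObj.comp_one] at e
  rwa [← Category.assoc, h1, Category.id_comp] at e

/-- **maps from projective space to an abelian variety are constant** -/
theorem proj_const (n : ℕ) (A : Over (Spec (CommRingCat.of K))) [GrpObj A] [IsProper A.hom]
    [GeometricallyIntegral A.hom] (f : Over.mk (CohB1.ProjSpace.toSpec n K) ⟶ A) :
    ∃ a : 𝟙_ (Over (Spec (CommRingCat.of K))) ⟶ A, f = toUnit _ ≫ a := by
  classical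
  let 𝒜 := CohB1.polyGrading n K
  let g : MvPolynomial (Fin (n + 1)) K := MvPolynomial.X 0
  have hg : g ∈ 𝒜 1 := MvPolynomial.isHomogeneous_X K 0
  let φ₀ : MvPolynomial (Fin (n + 1)) K →ₐ[K] MvPolynomial (Fin n) K :=
    MvPolynomial.aeval (Fin.cases 1 fun i => MvPolynomial.X i)
  have hφ₀ : φ₀.toRingHom g = 1 := by simp [φ₀, g]
  let c := ProjMor.chartHom (𝒜 := 𝒜) hg φ₀.toRingHom hφ₀
  let d : MvPolynomial (Fin n) K →+* Γ(Proj 𝒜, Proj.basicOpen 𝒜 g) :=
    MvPolynomial.eval₂Hom ((GrT.deh 𝒜 hg).comp (algebraMap K _)) fun i => GrT.deh 𝒜 hg (MvPolynomial.X i.succ)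
  have hcd : c.comp d = RingHom.id _ := by
    refine MvPolynomial.ringHom_ext (fun a => ?_) fun i => ?_
    · simp [c, d, ProjMor.chartHom_deh, φ₀]
    · simp [c, d, ProjMor.chartHom_deh, φ₀]
  have hdφ : d.comp φ₀.toRingHom = GrT.deh 𝒜 hg := by
    refine MvPolynomial.ringHom_ext (fun a => ?_) fun i => ?_
    · simp [d, φ₀, MvPolynomial.algebraMap_eq]
    · refine Fin.cases ?_ (fun j => ?_) i
      · simp [d, φ₀]
        exact (GrT.deh_self 𝒜 hg).symm
      · simp [d, φ₀]
  have hdc : ∀ x, d (c x) = x := fun x => by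
    obtain ⟨a, rfl⟩ := ProjMor.exists_deh_eq hg x
    rw [show c (GrT.deh 𝒜 hg a) = φ₀ a from ProjMor.chartHom_deh hg _ hφ₀ a]
    exact RingHom.congr_fun hdφ a
  let e : CommRingCat.of (MvPolynomial (Fin n) K) ≅ Γ(Proj 𝒜, Proj.basicOpen 𝒜 g) :=
    { hom := CommRingCat.ofHom d
      inv := CommRingCat.ofHom c
      hom_inv_id := CommRingCat.hom_ext hcd
      inv_hom_id := CommRingCat.hom_ext (RingHom.ext hdc) }
  let hU := ProjLib.isAffineOpen_basicOpen 𝒜 hg one_pos
  let ψ : Spec (CommRingCat.of (MvPolynomial (Fin n) K)) ⟶ CohB1.ProjSpace n K := Spec.map e.inv ≫ hU.fromSpec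
  haveI : IsIso e.inv := Iso.isIso_inv e
  haveI : IsIso (Spec.map e.inv) := inferInstanceAs (IsIso (Scheme.Spec.map e.inv.op))
  haveI : IsOpenImmersion hU.fromSpec := inferInstance
  haveI : IsOpenImmersion ψ := inferInstanceAs (IsOpenImmersion (Spec.map e.inv ≫ hU.fromSpec))
  have hψ : ψ ≫ CohB1.ProjSpace.toSpec n K =
      Spec.map (CommRingCat.ofHom (algebraMap K (MvPolynomial (Fin n) K))) := by
    refine ProjMor.ext_toSpec fun a => ?_
    rw [show CohB1.ProjSpace.toSpec n K = ProjMor.base 𝒜 from rfl, ProjMor.toGlobal_comp]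
    have hb := ProjMor.res_toGlobal_base 𝒜 hg a
    change (Spec.map e.inv ≫ hU.isoSpec.inv ≫ (Proj.basicOpen 𝒜 g).ι).appTop _ = _
    simp only [Scheme.Hom.comp_appTop, CommRingCat.comp_apply, IsAffineOpen.isoSpec_inv_appTop,
      Scheme.Opens.ι_appTop]
    have h2 : ∀ (x : Γ(Proj 𝒜, ⊤)) (h : (Proj.basicOpen 𝒜 g).ι ''ᵁ ⊤ ≤ ⊤),
        (Proj.basicOpen 𝒜 g).topIso.hom (((Proj 𝒜).presheaf.map (homOfLE h).op) x) =
          Groth.Agent.QC.resO (Proj 𝒜) le_top x := fun x h => by
      simp only [Scheme.Opens.topIso, Functor.mapIso_hom, ← CommRingCat.comp_apply, ← Functor.map_comp]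
      rfl
    erw [h2, hb]
    rw [← CommRingCat.comp_apply, ← Scheme.ΓSpecIso_inv_naturality, CommRingCat.comp_apply]
    simp [ProjUP.toGlobal, e, c, ProjMor.chartHom_deh, φ₀]
    exact congrArg (fun h => h.hom a) (Scheme.ΓSpecIso_inv_naturality
      (CommRingCat.ofHom (MvPolynomial.C : K →+* MvPolynomial (Fin n) K)))
  let ψ' : aff K (Fin n) ⟶ Over.mk (CohB1.ProjSpace.toSpec n K) := Over.homMk ψ hψ
  refine ⟨zeroPt K (Fin n) ≫ ψ' ≫ f, ?_⟩
  haveI := Horrocks.isIntegral_projSpace (k := K) (n := n)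
  haveI : IsIntegral (Over.mk (CohB1.ProjSpace.toSpec n K)).left := ‹_›
  haveI : IsDominant ψ'.left := ⟨(ψ.opensRange.isOpen.dense ⟨_, ⟨(zeroPt K (Fin n)).left (IsLocalRing.closedPoint K), rfl⟩⟩ :
    Dense (Set.range ψ))⟩
  apply Over.OverMorphism.ext
  refine ext_of_isDominant_of_isSeparated A.hom (by rw [Over.w, Over.w]) ψ'.left ?_
  rw [← Over.comp_left, ← Over.comp_left, ← Category.assoc ψ' (toUnit _), comp_toUnit]
  exact congrArg _ (aff_const A (ψ' ≫ f))

end Groth.Agent.AVRat
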