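import Groth.Agent.AVRat.SquareRel

/-!
The square relation on group varieties which are not assumed complete.
-/

set_option autoImplicit false
set_option backward.isDefEq.respectTransparency false
set_option backward.isDefEq.respectTransparency.types false
set_option linter.style.haveILetI false
set_option linter.unusedSectionVars false
set_option maxHeartbeats 1000000
set_option synthInstance.maxHeartbeats 200000

universe u

open CategoryTheory CategoryTheory.Limits MonoidalCategory CartesianMonoidalCategory MonObj GrpObj AlgebraicGeometry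
open Groth.Agent.W7Cube (pull pull_pull pull_cls)

noncomputable section

namespace Groth.Agent.AVRat

attribute [local instance] W7Cube.law

/-- an equation of classes gives an isomorphism of tensor products -/
theorem nonempty_iso_of_cls_mul_eq {X : Scheme.{u}} {A B C D : X.Modules} (hA : PicF.IsInvertible A)
    (hB : PicF.IsInvertible B) (hC : PicF.IsInvertible C) (hD : PicF.IsInvertible D)
    (h : PicGrp.cls A hA * PicGrp.cls B hB = PicGrp.cls C hC * PicGrp.cls D hD) :
    Nonempty (CohB1.tensorMod A B ≅ CohB1.tensorMod C D) :=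
  (PicGrp.cls_eq_cls_iff (TMul.isInvertible_tensorMod hA hB) (TMul.isInvertible_tensorMod hC hD)).1 h

variable {K : Type u} [Field K] [IsAlgClosed K] {G W : Over (Spec (CommRingCat.of K))}
  [Smooth W.hom] [IsSeparated W.hom] [QuasiCompact W.hom] [GeometricallyIntegral W.hom]

/-- the value of a class on `{a} × W` -/
def slice (c : PicLoc.PicSet (G ⊗ W).left) (a : AVDeg.one' K ⟶ G) : PicLoc.PicSet W.left :=
  pull (lift (pt W a) (𝟙 W)).left c

variable [GrpObj G] [Smooth G.hom] [IsSeparated G.hom] [QuasiCompact G.hom] [GeometricallyIntegral G.hom]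

theorem slice_square (c : PicLoc.PicSet (G ⊗ W).left) (a₁ a₂ a₃ a₄ : 𝟙_ (Over (Spec (CommRingCat.of K))) ⟶ G)
    (h : a₁ * a₃⁻¹ = a₂ * a₄⁻¹) : slice c a₁ * slice c a₄ = slice c a₂ * slice c a₃ := by
  haveI : Subsingleton (Spec (CommRingCat.of K)) := inferInstanceAs (Subsingleton (PrimeSpectrum K))
  haveI : IsIntegral G.left := GeometricallyIntegral.isIntegral_of_subsingleton G.hom
  let m : G ⊗ G ⊗ W ⟶ G ⊗ W := lift (fst G (G ⊗ W) * (snd G (G ⊗ W) ≫ fst G W)) (snd G (G ⊗ W) ≫ snd G W)
  have hv : ∀ g g' : 𝟙_ (Over (Spec (CommRingCat.of K))) ⟶ G,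
      val3 (pull m.left c) (pt W g) (pt W g') (𝟙 W) = slice c (g * g') := fun g g' => by
    rw [val3, pull_pull, ← Over.comp_left, slice]
    refine congrArg (fun t => pull (Over.Hom.left t) c) ?_
    apply CartesianMonoidalCategory.hom_ext
    · simp only [m, pt, Category.assoc, lift_fst, lift_snd_assoc, MonObj.comp_mul]
    · simp [m]
  have r := rel_of_smooth (pull m.left c) a₁ a₃ (1 : 𝟙_ (Over (Spec (CommRingCat.of K))) ⟶ G) (a₁⁻¹ * a₂)
  simp only [Rel, hv, _root_.mul_one, mul_inv_cancel_left] at r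
  rwa [show a₃ * (a₁⁻¹ * a₂) = a₄ by
    have h' := congrArg (fun x => x⁻¹) h
    simp only [_root_.mul_inv_rev, _root_.inv_inv] at h'
    rw [← _root_.mul_assoc, h', inv_mul_cancel_right]] at r

omit [IsAlgClosed K] [Smooth W.hom] [IsSeparated W.hom] [QuasiCompact W.hom] [GeometricallyIntegral W.hom] in
theorem whisker_translate (a : 𝟙_ (Over (Spec (CommRingCat.of K))) ⟶ G) :
    (𝟙 G * (toUnit G ≫ a)) ▷ W = lift (fst G W * (toUnit (G ⊗ W) ≫ a)) (snd G W) := by
  apply CartesianMonoidalCategory.hom_ext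
  · rw [whiskerRight_fst, lift_fst, MonObj.comp_mul, Category.comp_id, comp_toUnit_assoc]
  · rw [whiskerRight_snd, lift_snd]

theorem translate_square (c : PicLoc.PicSet (G ⊗ W).left) (a b : 𝟙_ (Over (Spec (CommRingCat.of K))) ⟶ G) :
    pull ((𝟙 G * (toUnit G ≫ (a * b))) ▷ W).left c * c =
      pull ((𝟙 G * (toUnit G ≫ a)) ▷ W).left c * pull ((𝟙 G * (toUnit G ≫ b)) ▷ W).left c := by
  haveI : Smooth (G ⊗ W).hom := smooth_prod
  haveI : IsSeparated (G ⊗ W).hom := separated_prod
  haveI : QuasiCompact (G ⊗ W).hom := quasiCompact_prod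
  haveI : GeometricallyIntegral (G ⊗ W).hom := geometricallyIntegral_prod
  let m : G ⊗ G ⊗ W ⟶ G ⊗ W := lift ((snd G (G ⊗ W) ≫ fst G W) * fst G (G ⊗ W)) (snd G (G ⊗ W) ≫ snd G W)
  have hv : ∀ g : 𝟙_ (Over (Spec (CommRingCat.of K))) ⟶ G,
      slice (W := G ⊗ W) (pull m.left c) g = pull ((𝟙 G * (toUnit G ≫ g)) ▷ W).left c := fun g => by
    rw [slice, pull_pull, ← Over.comp_left, whisker_translate]
    refine congrArg (fun t => pull (Over.Hom.left t) c) ?_
    apply CartesianMonoidalCategory.hom_ext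
    · simp only [m, pt, Category.assoc, lift_fst, lift_snd_assoc, MonObj.comp_mul, Category.id_comp]
    · simp [m]
  have r := slice_square (W := G ⊗ W) (pull m.left c) (a * b) a b 1 (by rw [mul_inv_cancel_right, inv_one, _root_.mul_one])
  rw [hv, hv, hv, hv] at r
  rwa [show ((𝟙 G * (toUnit G ≫ (1 : 𝟙_ (Over (Spec (CommRingCat.of K))) ⟶ G))) ▷ W).left = 𝟙 _ by
    rw [MonObj.comp_one, _root_.mul_one, id_whiskerRight, Over.id_left],
    show pull (𝟙 (G ⊗ W).left) c = c from PicGrp.pullHom_id_apply _ _] at r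

end Groth.Agent.AVRat
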