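import Groth.Agent.AVRat.CurveChain
import Groth.Agent.W7Cube.Group
import Groth.Agent.S17254
import Groth.Agent.S7887
import Groth.Agent.Assoc.Kernel

/-!
The square relation for invertible modules on a product of three smooth varieties, none assumed complete:
`L(a₀, b₀) ⊗ L(a₁, b₁) ≅ L(a₀, b₁) ⊗ L(a₁, b₀)`.
-/

set_option autoImplicit false
set_option backward.isDefEq.respectTransparency false
set_option backward.isDefEq.respectTransparency.types false
set_option linter.style.haveILetI false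
set_option linter.unusedSectionVars false
set_option maxHeartbeats 1000000
set_option synthInstance.maxHeartbeats 200000

universe u

open CategoryTheory CategoryTheory.Limits MonoidalCategory CartesianMonoidalCategory AlgebraicGeometry
open Groth.Agent.W7Cube (pull pull_pull pull_cls)

noncomputable section

namespace Groth.Agent.AVRat

attribute [local instance] W7Cube.law

variable {K : Type u} [Field K] {U V W T : Over (Spec (CommRingCat.of K))}

/-- the value of a class on a triple of maps -/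
def val3 (c : PicLoc.PicSet (U ⊗ V ⊗ W).left) (f : T ⟶ U) (g : T ⟶ V) (h : T ⟶ W) : PicLoc.PicSet T.left :=
  pull (lift f (lift g h)).left c

theorem pull_val3 (c : PicLoc.PicSet (U ⊗ V ⊗ W).left) {T' : Over (Spec (CommRingCat.of K))} (t : T' ⟶ T)
    (f : T ⟶ U) (g : T ⟶ V) (h : T ⟶ W) :
    pull t.left (val3 c f g h) = val3 c (t ≫ f) (t ≫ g) (t ≫ h) := by
  rw [val3, val3, pull_pull, ← Over.comp_left, comp_lift, comp_lift]

theorem val3_map {U' V' : Over (Spec (CommRingCat.of K))} (u : U' ⟶ U) (v : V' ⟶ V)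
    (c : PicLoc.PicSet (U ⊗ V ⊗ W).left) (f : T ⟶ U') (g : T ⟶ V') (h : T ⟶ W) :
    val3 (pull (u ⊗ₘ (v ⊗ₘ 𝟙 W)).left c) f g h = val3 c (f ≫ u) (g ≫ v) h := by
  rw [val3, val3, pull_pull, ← Over.comp_left, lift_map, lift_map, Category.comp_id]

/-- a constant map -/
def pt {X : Over (Spec (CommRingCat.of K))} (T : Over (Spec (CommRingCat.of K))) (x : AVDeg.one' K ⟶ X) : T ⟶ X :=
  toUnit T ≫ x

theorem comp_pt {T' X : Over (Spec (CommRingCat.of K))} (g : T ⟶ T') (x : AVDeg.one' K ⟶ X) :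
    g ≫ pt T' x = pt T x := by
  rw [pt, pt, ← Category.assoc]
  exact congrArg (· ≫ x) (toUnit_unique _ _)

theorem pt_comp {X X' : Over (Spec (CommRingCat.of K))} (x : AVDeg.one' K ⟶ X) (f : X ⟶ X') :
    pt T x ≫ f = pt T (x ≫ f) := Category.assoc _ _ _

theorem val3_const (c : PicLoc.PicSet (U ⊗ V ⊗ W).left) (x : AVDeg.one' K ⟶ U) (y : AVDeg.one' K ⟶ V)
    (z : AVDeg.one' K ⟶ W) : val3 c (pt T x) (pt T y) (pt T z) = 1 := by
  haveI : Subsingleton (AVDeg.one' K).left := inferInstanceAs (Subsingleton (PrimeSpectrum K))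
  haveI : Nonempty (AVDeg.one' K).left := inferInstanceAs (Nonempty (PrimeSpectrum K))
  have h : val3 c x y z = 1 := by
    obtain ⟨L, hL, e⟩ := PicGrp.exists_eq_cls (val3 c x y z)
    rw [e, PicGrp.cls_eq_one_iff]
    exact W7See.nonempty_iso_unit_of_subsingleton hL
  rw [pt, pt, pt, ← pull_val3, h, map_one]

/-- the square relation -/
def Rel (c : PicLoc.PicSet (U ⊗ V ⊗ W).left) (a₀ a₁ : AVDeg.one' K ⟶ U) (b₀ b₁ : AVDeg.one' K ⟶ V) : Prop :=
  val3 c (pt W a₀) (pt W b₀) (𝟙 W) * val3 c (pt W a₁) (pt W b₁) (𝟙 W) =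
    val3 c (pt W a₀) (pt W b₁) (𝟙 W) * val3 c (pt W a₁) (pt W b₀) (𝟙 W)

theorem Rel.trans₁ {c : PicLoc.PicSet (U ⊗ V ⊗ W).left} {a₀ a₁ a : AVDeg.one' K ⟶ U} {b₀ b₁ : AVDeg.one' K ⟶ V}
    (h₀ : Rel c a₀ a b₀ b₁) (h₁ : Rel c a₁ a b₀ b₁) : Rel c a₀ a₁ b₀ b₁ := by
  rw [Rel, ← eq_mul_inv_iff_mul_eq] at h₀ h₁ ⊢
  rw [h₀, h₁]
  apply Additive.ofMul.injective
  simp only [ofMul_mul, ofMul_inv]
  abel

theorem Rel.trans₂ {c : PicLoc.PicSet (U ⊗ V ⊗ W).left} {a₀ a₁ : AVDeg.one' K ⟶ U} {b₀ b₁ b : AVDeg.one' K ⟶ V}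
    (h₀ : Rel c a₀ a₁ b₀ b) (h₁ : Rel c a₀ a₁ b₁ b) : Rel c a₀ a₁ b₀ b₁ := by
  rw [Rel, ← eq_mul_inv_iff_mul_eq] at h₀ h₁ ⊢
  rw [h₀, h₁]
  apply Additive.ofMul.injective
  simp only [ofMul_mul, ofMul_inv]
  abel

/-- invertible modules extend from open subschemes of regular schemes -/
theorem exists_extension_class {X Z : Scheme.{u}} [IsNoetherian X] [ConnectedSpace X]
    (hreg : ∀ x : X, IsRegularLocalRing (X.presheaf.stalk x)) (j : Z ⟶ X) [IsOpenImmersion j]
    (c : PicLoc.PicSet Z) : ∃ d : PicLoc.PicSet X, pull j d = c := by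
  obtain ⟨M, hM, e⟩ := PicGrp.exists_eq_cls (pull j.isoOpensRange.inv c)
  obtain ⟨L, hL, ⟨i⟩⟩ := S7887.result X hreg j.opensRange M hM
  refine ⟨PicGrp.cls L hL, ?_⟩
  have h : pull j.opensRange.ι (PicGrp.cls L hL) = pull j.isoOpensRange.inv c := by
    rw [e, pull_cls, PicGrp.cls_eq_cls_iff]
    exact ⟨((Scheme.Modules.restrictFunctorIsoPullback j.opensRange.ι).app L).symm ≪≫ i⟩
  rw [← j.isoOpensRange_hom_ι, ← pull_pull, h, pull_pull, Iso.hom_inv_id]
  exact PicGrp.pullHom_id_apply _ _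

variable [IsAlgClosed K]

/-- the relation when the first two factors are proper -/
theorem rel_of_proper {C D : Over (Spec (CommRingCat.of K))} [IsProper C.hom] [GeometricallyIntegral C.hom]
    [IsProper D.hom] [GeometricallyIntegral D.hom] [LocallyOfFiniteType W.hom] [QuasiCompact W.hom]
    [GeometricallyIntegral W.hom] (c : PicLoc.PicSet (C ⊗ D ⊗ W).left) (a₀ a₁ : AVDeg.one' K ⟶ C)
    (b₀ b₁ : AVDeg.one' K ⟶ D) : Rel c a₀ a₁ b₀ b₁ := by
  haveI : GeometricallyReduced D.hom := inferInstance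
  haveI : GeometricallyConnected D.hom := W7See.geometricallyConnected_of_geometricallyIntegral D.hom
  haveI : Subsingleton (Spec (CommRingCat.of K)) := inferInstanceAs (Subsingleton (PrimeSpectrum K))
  haveI : IsIntegral W.left := GeometricallyIntegral.isIntegral_of_subsingleton W.hom
  haveI : JacobsonSpace W.left := LocallyOfFiniteType.jacobsonSpace W.hom
  obtain ⟨x, -, hx⟩ := nonempty_inter_closedPoints (Z := (Set.univ : Set W.left)) Set.univ_nonempty
    isOpen_univ.isLocallyClosed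
  obtain ⟨z₀, -⟩ := exists_point hx
  let x : (C ⊗ D ⊗ W) ⟶ C := fst C (D ⊗ W)
  let y : (C ⊗ D ⊗ W) ⟶ D := snd C (D ⊗ W) ≫ fst D W
  let z : (C ⊗ D ⊗ W) ⟶ W := snd C (D ⊗ W) ≫ snd D W
  let E : PicLoc.PicSet (C ⊗ D ⊗ W).left :=
    val3 c x y z * val3 c (pt (C ⊗ D ⊗ W) a₀) (pt (C ⊗ D ⊗ W) b₀) z * val3 c (pt (C ⊗ D ⊗ W) a₀) y (pt (C ⊗ D ⊗ W) z₀) *
      val3 c x (pt (C ⊗ D ⊗ W) b₀) (pt (C ⊗ D ⊗ W) z₀) *
      (val3 c (pt (C ⊗ D ⊗ W) a₀) y z * val3 c x (pt (C ⊗ D ⊗ W) b₀) z * val3 c x y (pt (C ⊗ D ⊗ W) z₀))⁻¹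
  obtain ⟨N, hN, hNc⟩ := PicGrp.exists_eq_cls E
  have key : ∀ {T : Over (Spec (CommRingCat.of K))} (g : T ⟶ (C ⊗ D ⊗ W)), pull g.left E = 1 →
      Nonempty ((Scheme.Modules.pullback g.left).obj N ≅ Coh.structureModule T.left) := fun g h => by
    rw [hNc, pull_cls, PicGrp.cls_eq_one_iff] at h
    exact h
  have hE : E = 1 := by
    rw [hNc, PicGrp.cls_eq_one_iff]
    refine S17254.result K C D W a₀ b₀ z₀ N hN (key (lift (pt (D ⊗ W) a₀) (𝟙 (D ⊗ W))) ?_)
      (key (lift (fst C W) (lift (pt (C ⊗ W) b₀) (snd C W))) ?_) (key (lift (fst C D) (lift (snd C D) (pt (C ⊗ D) z₀))) ?_)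
    · simp only [E, x, y, z, map_mul, map_inv, pull_val3, lift_fst, lift_fst_assoc, lift_snd, lift_snd_assoc,
        comp_pt, Category.id_comp, Category.assoc, val3_const, mul_one]
      apply Additive.ofMul.injective
      simp only [ofMul_mul, ofMul_inv, ofMul_one]
      abel
    · simp only [E, x, y, z, map_mul, map_inv, pull_val3, lift_fst, lift_fst_assoc, lift_snd, lift_snd_assoc,
        comp_pt, Category.id_comp, Category.assoc, val3_const, mul_one]
      apply Additive.ofMul.injective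
      simp only [ofMul_mul, ofMul_inv, ofMul_one]
      abel
    · simp only [E, x, y, z, map_mul, map_inv, pull_val3, lift_fst, lift_fst_assoc, lift_snd, lift_snd_assoc,
        comp_pt, Category.id_comp, Category.assoc, val3_const, mul_one]
      apply Additive.ofMul.injective
      simp only [ofMul_mul, ofMul_inv, ofMul_one]
      abel
  have h := congrArg (pull (lift (pt W a₁) (lift (pt W b₁) (𝟙 W))).left) hE
  simp only [E, x, y, z, map_one, map_mul, map_inv, pull_val3, lift_fst, lift_fst_assoc, lift_snd, lift_snd_assoc,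
    comp_pt, Category.id_comp, Category.assoc, val3_const, mul_one] at h
  rw [mul_inv_eq_one] at h
  rw [Rel, _root_.mul_comm (val3 c (pt W a₀) (pt W b₀) (𝟙 W)), h]

/-- the smooth completion of a curve -/
theorem exists_completion_over' (C : Over (Spec (CommRingCat.of K))) [IsIntegral C.left] [Smooth C.hom]
    [IsSeparated C.hom] [QuasiCompact C.hom] (hdim : topologicalKrullDim C.left = 1) (c₀ : AVDeg.one' K ⟶ C) :
    ∃ (Y : Over (Spec (CommRingCat.of K))) (j : C ⟶ Y), IsProper Y.hom ∧ Smooth Y.hom ∧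
      GeometricallyIntegral Y.hom ∧ IsOpenImmersion j.left := by
  obtain ⟨Y, q, j, hj, hjq, hY, hsm, -, n, i, hi, hiq⟩ := SmoothCompl.exists_completion C.hom hdim
  haveI := hj; haveI := hY; haveI := hsm; haveI := hi
  haveI : IsProper q := by
    rw [← hiq]
    haveI := ProjMor.isProper_toSpec n K
    infer_instance
  refine ⟨Over.mk q, Over.homMk j hjq, ‹IsProper q›, hsm, ?_, hj⟩
  haveI : IsIntegral (Over.mk q).left := hY
  haveI : Smooth (Over.mk q).hom := hsm
  exact geometricallyIntegral_of_point (c₀ ≫ (Over.homMk j hjq : C ⟶ Over.mk q))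

variable [Smooth W.hom] [IsSeparated W.hom] [QuasiCompact W.hom] [GeometricallyIntegral W.hom]

/-- the relation for smooth curves -/
theorem rel_of_curves {C D : Over (Spec (CommRingCat.of K))} [IsIntegral C.left] [Smooth C.hom] [IsSeparated C.hom]
    [QuasiCompact C.hom] (hC : topologicalKrullDim C.left = 1) [IsIntegral D.left] [Smooth D.hom]
    [IsSeparated D.hom] [QuasiCompact D.hom] (hD : topologicalKrullDim D.left = 1)
    (c : PicLoc.PicSet (C ⊗ D ⊗ W).left) (a₀ a₁ : AVDeg.one' K ⟶ C) (b₀ b₁ : AVDeg.one' K ⟶ D) :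
    Rel c a₀ a₁ b₀ b₁ := by
  obtain ⟨C', u, hp, hs, hg, hu⟩ := exists_completion_over' C hC a₀
  obtain ⟨D', v, hp', hs', hg', hv⟩ := exists_completion_over' D hD b₀
  haveI := hp; haveI := hs; haveI := hg; haveI := hu
  haveI := hp'; haveI := hs'; haveI := hg'; haveI := hv
  haveI : Smooth (D' ⊗ W).hom := smooth_prod
  haveI : IsSeparated (D' ⊗ W).hom := separated_prod
  haveI : QuasiCompact (D' ⊗ W).hom := quasiCompact_prod
  haveI : GeometricallyIntegral (D' ⊗ W).hom := geometricallyIntegral_prod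
  haveI : Smooth (C' ⊗ D' ⊗ W).hom := smooth_prod
  haveI : QuasiCompact (C' ⊗ D' ⊗ W).hom := quasiCompact_prod
  haveI : GeometricallyIntegral (C' ⊗ D' ⊗ W).hom := geometricallyIntegral_prod
  haveI : Subsingleton (Spec (CommRingCat.of K)) := inferInstanceAs (Subsingleton (PrimeSpectrum K))
  haveI : IsIntegral (C' ⊗ D' ⊗ W).left := GeometricallyIntegral.isIntegral_of_subsingleton (C' ⊗ D' ⊗ W).hom
  haveI : IsLocallyNoetherian (C' ⊗ D' ⊗ W).left := LocallyOfFiniteType.isLocallyNoetherian (C' ⊗ D' ⊗ W).hom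
  haveI : CompactSpace (C' ⊗ D' ⊗ W).left := QuasiCompact.compactSpace_of_compactSpace (C' ⊗ D' ⊗ W).hom
  haveI : IsNoetherian (C' ⊗ D' ⊗ W).left := {}
  let j := u ⊗ₘ (v ⊗ₘ 𝟙 W)
  haveI : IsOpenImmersion (v ▷ W).left :=
    MorphismProperty.of_isPullback (P := @IsOpenImmersion) (Assoc.isPullback_whiskerRight v) hv
  haveI : IsOpenImmersion (C' ◁ (v ▷ W)).left :=
    MorphismProperty.of_isPullback (P := @IsOpenImmersion) (Assoc.isPullback_whiskerLeft (v ▷ W)) ‹_›
  haveI : IsOpenImmersion (u ▷ (D ⊗ W)).left :=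
    MorphismProperty.of_isPullback (P := @IsOpenImmersion) (Assoc.isPullback_whiskerRight u) hu
  haveI : IsOpenImmersion j.left := by
    rw [show j = u ▷ (D ⊗ W) ≫ C' ◁ (v ▷ W) by
      rw [← MonoidalCategory.tensorHom_def, ← MonoidalCategory.tensorHom_id]]
    rw [Over.comp_left]
    infer_instance
  obtain ⟨d, hd⟩ := exists_extension_class
    (fun x => SmLocalST.isRegularLocalRing_stalk_of_smooth_field (C' ⊗ D' ⊗ W).hom x) j.left c
  have h := rel_of_proper d (a₀ ≫ u) (a₁ ≫ u) (b₀ ≫ v) (b₁ ≫ v)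
  rw [← hd]
  simpa only [Rel, j, val3_map, pt_comp] using h

/-- **The square relation on noncomplete varieties.** -/
theorem rel_of_smooth [IsIntegral U.left] [Smooth U.hom] [IsSeparated U.hom] [QuasiCompact U.hom]
    [IsIntegral V.left] [Smooth V.hom] [IsSeparated V.hom] [QuasiCompact V.hom]
    (c : PicLoc.PicSet (U ⊗ V ⊗ W).left) (a₀ a₁ : AVDeg.one' K ⟶ U) (b₀ b₁ : AVDeg.one' K ⟶ V) :
    Rel c a₀ a₁ b₀ b₁ := by
  have h : ∀ (a a' : AVDeg.one' K ⟶ U) (b b' : AVDeg.one' K ⟶ V), Linked U a a' → Linked V b b' →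
      Rel c a a' b b' := by
    intro a a' b b' ha hb
    rcases ha with rfl | ⟨C, hCi, f, x₀, x₁, hs, hsep, hqc, hCd, rfl, rfl⟩
    · rw [Rel, _root_.mul_comm]
    rcases hb with rfl | ⟨D, hDi, g, y₀, y₁, hs', hsep', hqc', hDd, rfl, rfl⟩
    · rfl
    haveI := hCi; haveI := hs; haveI := hsep; haveI := hqc
    haveI := hDi; haveI := hs'; haveI := hsep'; haveI := hqc'
    simpa only [Rel, val3_map, pt_comp] using rel_of_curves hCd hDd (pull (f ⊗ₘ (g ⊗ₘ 𝟙 W)).left c) x₀ x₁ y₀ y₁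
  obtain ⟨a, ha₀, ha₁⟩ := exists_chain U a₀ a₁
  obtain ⟨b, hb₀, hb₁⟩ := exists_chain V b₀ b₁
  exact ((h a₀ a b₀ b ha₀ hb₀).trans₂ (h a₀ a b₁ b ha₀ hb₁)).trans₁ ((h a₁ a b₀ b ha₁ hb₀).trans₂ (h a₁ a b₁ b ha₁ hb₁))

end Groth.Agent.AVRat
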